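import Cfsg.Agent.Lib.Recog.SelfCentThree.Count
import Cfsg.Agent.Lib.ClassK.SmallOrders
import Cfsg.Agent.S0998
import Cfsg.Agent.S1010

/-!
Groups with a self-centralizing element of order three.
-/

set_option autoImplicit false
set_option linter.unusedSectionVars false
set_option linter.style.haveILetI false

namespace CfsgLib.Recog.SelfCentThree

open Subgroup

universe u

variable {G : Type u} [Group G] [Finite G] {x : G}

theorem card_eq_or {G : Type u} [Group G] [Finite G] [IsSimpleGroup G] {x : G} (hx : Ctx x) :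
    Nat.card G = 60 ∨ Nat.card G = 168 := by
  have h := hx.hyp
  obtain ⟨t, ht⟩ := h.exists_inverter hx.nc
  have hmod := h.card_mod_eighteen ht
  have hle := hx.card_le
  have hmem := CfsgLib.ClassK.card_mem_of_le_1092 hx.nc hle
  have h420 : Nat.card G ≠ 420 := by
    intro e
    haveI : Fact (Nat.Prime 5) := ⟨by norm_num⟩
    obtain ⟨h1, h5, hd, hf⟩ :=
      CfsgLib.Transfer.sylow_count_of_simple (p := 5) hx.nc (by rw [e]; norm_num)
    rw [e] at hd hf
    have hcases : ∀ d ∈ Nat.divisors 420, d % 5 = 1 → d = 1 ∨ d = 6 ∨ d = 21 := by decide +kernel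
    rcases hcases _ (Nat.mem_divisors.2 ⟨hd, by norm_num⟩) h5 with e' | e' | e'
    · omega
    · rw [e'] at hf
      exact absurd hf (by decide)
    · exact Cfsg.Agent.S1010.result e'
  have h960 : Nat.card G ≠ 960 := by
    intro e
    have hnc : ¬ IsCyclic G := fun hc => hx.nc hc.isMulCommutative
    haveI : Fact (Nat.Prime 5) := ⟨by norm_num⟩
    haveI : Fact (Nat.Prime 7) := ⟨by norm_num⟩
    rcases Cfsg.Agent.S0998.result hnc 3 2 5 6 Nat.prime_three Nat.prime_two (by norm_num)
        (by norm_num) (by norm_num) (by norm_num) (by rw [e]; norm_num) with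
      ⟨F, iF, iF', hF, ⟨f⟩⟩ | ⟨F, iF, iF', hF, ⟨f⟩⟩
    · rw [Nat.card_congr f.toEquiv, CfsgLib.Classical.card_psl_two_eq hF 60 (by norm_num)] at e
      omega
    · rw [Nat.card_congr f.toEquiv, CfsgLib.Classical.card_psl_two_eq hF 168 (by norm_num)] at e
      omega
  generalize Nat.card G = m at hmod hmem h420 h960
  simp only [List.mem_cons, List.not_mem_nil, or_false] at hmem
  omega

/-- Every group with a self-centralizing element of order three has one of the three structures. -/
theorem conc (h : Hyp x) : Conc G := by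
  suffices key : ∀ (n : ℕ) (G : Type u) [Group G] [Finite G] (x : G), Nat.card G = n → Hyp x → Conc G
    from key _ G x rfl h
  intro n
  induction n using Nat.strong_induction_on with
  | _ n ih =>
  intro G _ _ x hn h
  subst hn
  have ih' : ∀ (H : Type u) [Group H] [Finite H] (y : H), Nat.card H < Nat.card G → Hyp y → Conc H :=
    fun H _ _ y hlt hy => ih _ hlt H y rfl hy
  by_cases hns : ∃ L : Subgroup G, L.Normal ∧ L ≠ ⊥ ∧ L ≠ ⊤
  · obtain ⟨L, hL, hL0, hL1⟩ := hns
    exact conc_of_not_simple h L hL0 hL1 ih'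
  haveI : Nontrivial G := ⟨⟨x, 1, h.ne_one⟩⟩
  haveI : IsSimpleGroup G := ⟨fun L hL => by
    by_contra hcon
    push Not at hcon
    exact hns ⟨L, hL, hcon.1, hcon.2⟩⟩
  by_cases hG : IsMulCommutative G
  · rcases h.inverter_or_complement with ⟨t, ht⟩ | ⟨N, hN, hN3, hNi⟩
    · exfalso
      have e : x = x⁻¹ := by
        have e' := ht.2
        rwa [mul_comm' t x, mul_inv_cancel_right] at e'
      refine h.ne_one ?_
      calc x = x⁻¹ * (x * x) := by group
        _ = x * (x * x) := by rw [← e]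
        _ = 1 := by rw [← mul_assoc, h.pow_three]
    · rcases IsSimpleGroup.eq_bot_or_eq_top_of_normal N hN with e | e
      · refine Or.inl ⟨⊥, inferInstance, inferInstance, by rw [Subgroup.card_bot]; norm_num,
          Or.inl ?_⟩
        rw [← e]; exact hNi
      · rw [e, Subgroup.index_top] at hNi
        norm_num at hNi
  have hx : Ctx x := ⟨h, hG, fun H hH hxH => ih' H ⟨x, hxH⟩
    (lt_of_le_of_ne (Subgroup.card_le_card_group H) fun e => hH (Subgroup.eq_top_of_card_eq H e))
    (h.subtype hxH)⟩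
  rcases card_eq_or hx with e | e
  · refine Or.inr (Or.inl ⟨⊥, inferInstance, fun a ha => by rw [Subgroup.mem_bot.1 ha, mul_one], ?_,
      by rw [Subgroup.index_bot, e]⟩)
    haveI : Nontrivial (G ⧸ (⊥ : Subgroup G)) :=
      (QuotientGroup.quotientBot (G := G)).toEquiv.nontrivial
    exact MulEquiv.isSimpleGroup QuotientGroup.quotientBot
  · exact Or.inr (Or.inr ⟨‹_›, e⟩)

/-- A group of order six with a self-centralizing element of order three is symmetric. -/
theorem equiv_perm_three (h : Hyp x) (h6 : Nat.card G = 6) : Nonempty (G ≃* Equiv.Perm (Fin 3)) := by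
  haveI : Fact (Nat.Prime 2) := ⟨Nat.prime_two⟩
  obtain ⟨y, hy⟩ := exists_prime_orderOf_dvd_card' (G := G) 2 (by rw [h6]; norm_num)
  set K := Subgroup.zpowers y
  have hK : Nat.card K = 2 := by rw [Nat.card_zpowers, hy]
  have hi : K.index = 3 := by
    have h1 := K.card_mul_index
    rw [hK, h6] at h1
    omega
  have hcore : K.normalCore = ⊥ := by
    by_contra hne
    have h2 : K.normalCore = K := Subgroup.eq_of_le_of_card_ge K.normalCore_le (by
      have h1 := (Subgroup.one_lt_card_iff_ne_bot _).2 hne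
      omega)
    have hn : K.Normal := h2 ▸ K.normalCore_normal
    have hm := hn.conj_mem y (Subgroup.mem_zpowers y) x
    obtain ⟨k, hk⟩ := Subgroup.mem_zpowers_iff.1 hm
    rw [← zpow_mod_orderOf, hy] at hk
    rcases Int.emod_two_eq_zero_or_one k with e | e
    · rw [Nat.cast_ofNat, e, zpow_zero] at hk
      rw [eq_comm, conj_eq_one_iff] at hk
      rw [hk, orderOf_one] at hy
      norm_num at hy
    · rw [Nat.cast_ofNat, e, zpow_one] at hk
      have hc : y * x = x * y := eq_mul_inv_iff_mul_eq.1 hk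
      have hd := orderOf_dvd_natCard (⟨y, h.mem_of_commute hc⟩ : Subgroup.zpowers x)
      rw [Subgroup.orderOf_mk, h.card_zpowers, hy] at hd
      norm_num at hd
  let e : G ⧸ K ≃ Fin 3 := Finite.equivFinOfCardEq ((Subgroup.index_eq_card K).symm.trans hi)
  let f : G →* Equiv.Perm (Fin 3) := e.permCongrHom.toMonoidHom.comp (MulAction.toPermHom G (G ⧸ K))
  have hf : Function.Injective f := by
    refine e.permCongrHom.injective.comp ((MonoidHom.ker_eq_bot_iff _).1 ?_)
    rw [← Subgroup.normalCore_eq_ker, hcore]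
  exact ⟨MulEquiv.ofBijective f ((Nat.bijective_iff_injective_and_card f).2
    ⟨hf, by rw [h6, Nat.card_perm, Nat.card_eq_fintype_card, Fintype.card_fin]; rfl⟩)⟩

/-- The classification in the stated form. -/
theorem main (X : Subgroup G) (hX : Nat.card X = 3) (hC : Subgroup.centralizer (X : Set G) = X) :
    (∃ (N : Subgroup G) (_ : N.Normal), Group.IsNilpotent N ∧ (Nat.card N).Coprime 3 ∧
        (Nat.card (G ⧸ N) = 3 ∨ Nonempty (G ⧸ N ≃* Equiv.Perm (Fin 3)))) ∨
    (∃ (N : Subgroup G) (_ : N.Normal), IsMulCommutative N ∧ (∀ n ∈ N, n ^ 2 = 1) ∧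
        Nonempty (G ⧸ N ≃* alternatingGroup (Fin 5))) ∨
    Nonempty (G ≃* Matrix.ProjectiveSpecialLinearGroup (Fin 2) (ZMod 7)) := by
  haveI : Fact (Nat.Prime 3) := ⟨Nat.prime_three⟩
  obtain ⟨⟨x, hxX⟩, hx3⟩ := exists_prime_orderOf_dvd_card' (G := X) 3 (by rw [hX])
  rw [Subgroup.orderOf_mk] at hx3
  have hXx : Subgroup.zpowers x = X := Subgroup.eq_of_le_of_card_ge (Subgroup.zpowers_le.2 hxX)
    (by rw [hX, Nat.card_zpowers, hx3])
  have h : Hyp x := by
    refine ⟨hx3, ?_⟩
    rw [hXx]
    refine le_antisymm (fun g hg => ?_) fun g hg => ?_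
    · rw [← hC, Subgroup.mem_centralizer_iff]
      intro a ha
      rw [← hXx] at ha
      obtain ⟨k, rfl⟩ := Subgroup.mem_zpowers_iff.1 ha
      exact ((show Commute x g from (Subgroup.mem_centralizer_singleton_iff.1 hg).symm).zpow_left k).eq
    · rw [← hC, Subgroup.mem_centralizer_iff] at hg
      exact Subgroup.mem_centralizer_singleton_iff.2 (hg x hxX).symm
  rcases conc h with ⟨N, hN, hnil, hN3, hi⟩ | ⟨E, hE, hE2, hEs, hEi⟩ | ⟨hs, hc⟩
  · refine Or.inl ⟨N, hN, hnil, ((Nat.prime_three.coprime_iff_not_dvd).2 hN3).symm, ?_⟩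
    rcases hi with e | e
    · exact Or.inl e
    · exact Or.inr (equiv_perm_three (h.quotient N hN3) e)
  · refine Or.inr (Or.inl ⟨E, hE, ?_, fun n hn => by rw [sq]; exact hE2 n hn, ?_⟩)
    · refine ⟨⟨fun a b => Subtype.ext ?_⟩⟩
      have ha := inv_eq_of_mul_eq_one_right (hE2 a a.2)
      have hb := inv_eq_of_mul_eq_one_right (hE2 b b.2)
      have hab := inv_eq_of_mul_eq_one_right (hE2 _ (mul_mem a.2 b.2))
      rw [mul_inv_rev, ha, hb] at hab
      exact hab.symm
    · haveI := hEs
      exact CfsgLib.Geom.equiv_altFive_of_simple_sixty hEi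
  · haveI := hs
    haveI : Fact (Nat.Prime 7) := ⟨by norm_num⟩
    haveI := CfsgLib.ClassK.isSimpleGroup_psl_two (F := ZMod 7) (by rw [ZMod.card]; norm_num)
    exact Or.inr (Or.inr (CfsgLib.ClassK.nonempty_equiv_168 hc
      (CfsgLib.Classical.card_psl_two_eq (ZMod.card 7) 168 (by norm_num))))

end CfsgLib.Recog.SelfCentThree
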