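import Cfsg.Agent.Lib.Block.SelfCentralQuot
import Cfsg.Agent.Lib.Complement.FpfNilpotent
import Cfsg.Agent.Lib.Transfer.Basic
import Cfsg.Agent.Lib.Transfer.Frobenius

/-!
A self-centralizing element of order three: first properties.
-/

set_option autoImplicit false
set_option linter.unusedSectionVars false

namespace CfsgLib.Recog.SelfCentThree

open CfsgLib.Block Subgroup

universe u

variable {G : Type u} [Group G] [Finite G] {x : G}

/-- An element of order three that generates its own centralizer. -/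
structure Hyp (x : G) : Prop where
  ord : orderOf x = 3
  cent : Subgroup.centralizer ({x} : Set G) = Subgroup.zpowers x

/-- A subgroup of order prime to three normalized by `x`. -/
def Inv (x : G) (M : Subgroup G) : Prop :=
  x ∈ Subgroup.normalizer (M : Set G) ∧ ¬ 3 ∣ Nat.card M

namespace Hyp

theorem pow_three (h : Hyp x) : x * x * x = 1 := by
  rw [← pow_three', ← h.ord, pow_orderOf_eq_one]

theorem inv_eq (h : Hyp x) : x⁻¹ = x * x :=
  inv_eq_of_mul_eq_one_right (by rw [← mul_assoc]; exact h.pow_three)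

theorem ne_one (h : Hyp x) : x ≠ 1 := by
  intro e
  have := h.ord
  rw [e, orderOf_one] at this
  norm_num at this

theorem three_dvd (h : Hyp x) : 3 ∣ Nat.card G := h.ord ▸ orderOf_dvd_natCard x

theorem card_zpowers (h : Hyp x) : Nat.card (Subgroup.zpowers x) = 3 := by
  rw [Nat.card_zpowers, h.ord]

theorem mem_zpowers_cases (h : Hyp x) {y : G} (hy : y ∈ Subgroup.zpowers x) :
    y = 1 ∨ y = x ∨ y = x⁻¹ := by
  obtain ⟨k, rfl⟩ := Subgroup.mem_zpowers_iff.1 hy
  rw [← zpow_mod_orderOf, h.ord]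
  have h1 := Int.emod_nonneg k (by norm_num : (3 : ℤ) ≠ 0)
  have h2 := Int.emod_lt_of_pos k (by norm_num : (0 : ℤ) < 3)
  rcases (by omega : k % 3 = 0 ∨ k % 3 = 1 ∨ k % 3 = 2) with e | e | e
  · left; rw [Nat.cast_ofNat, e, zpow_zero]
  · right; left; rw [Nat.cast_ofNat, e, zpow_one]
  · right; right; rw [Nat.cast_ofNat, e, h.inv_eq, zpow_two]

theorem mem_of_commute (h : Hyp x) {y : G} (hy : y * x = x * y) : y ∈ Subgroup.zpowers x := by
  rw [← h.cent, Subgroup.mem_centralizer_singleton_iff]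
  exact hy

theorem not_nine_dvd (h : Hyp x) : ¬ 3 ^ 2 ∣ Nat.card G :=
  haveI : Fact (Nat.Prime 3) := ⟨Nat.prime_three⟩
  SelfCentralPrime.not_sq_dvd h.ord h.cent

theorem subtype (h : Hyp x) {H : Subgroup G} (hxH : x ∈ H) : Hyp (⟨x, hxH⟩ : H) := by
  refine ⟨by rw [Subgroup.orderOf_mk]; exact h.ord, le_antisymm (fun y hy => ?_) ?_⟩
  · rw [Subgroup.mem_centralizer_singleton_iff, Subtype.ext_iff] at hy
    obtain ⟨k, hk⟩ := Subgroup.mem_zpowers_iff.1 (h.mem_of_commute hy)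
    exact Subgroup.mem_zpowers_iff.2 ⟨k, Subtype.ext (by rw [SubgroupClass.coe_zpow]; exact hk)⟩
  · rw [Subgroup.zpowers_le, Subgroup.mem_centralizer_singleton_iff]

theorem quotient (h : Hyp x) (N : Subgroup G) [N.Normal] (hN : ¬ 3 ∣ Nat.card N) :
    Hyp (QuotientGroup.mk x : G ⧸ N) :=
  haveI : Fact (Nat.Prime 3) := ⟨Nat.prime_three⟩
  ⟨(SelfCentralPrime.centralizer_mk h.ord h.cent N hN).1,
    (SelfCentralPrime.centralizer_mk h.ord h.cent N hN).2⟩

theorem eq_one_of_commute (h : Hyp x) {M : Subgroup G} (hM : ¬ 3 ∣ Nat.card M) {m : G}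
    (hm : m ∈ M) (hc : m * x = x * m) : m = 1 := by
  rw [← orderOf_eq_one_iff]
  refine Nat.eq_one_of_dvd_coprimes ((Nat.prime_three.coprime_iff_not_dvd).2 hM) ?_ ?_
  · rw [← h.card_zpowers, ← Subgroup.orderOf_mk m (h.mem_of_commute hc)]
    exact orderOf_dvd_natCard _
  · rw [← Subgroup.orderOf_mk m hm]
    exact orderOf_dvd_natCard _

theorem normal_card_mod (h : Hyp x) (S : Subgroup G) [S.Normal] (hS : ¬ 3 ∣ Nat.card S) :
    Nat.card S % 3 = 1 :=
  haveI : Fact (Nat.Prime 3) := ⟨Nat.prime_three⟩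
  SelfCentralPrime.natCard_mod h.ord h.cent S hS

end Hyp

namespace Inv

variable {M : Subgroup G}

theorem card_mod (hM : Inv x M) (h : Hyp x) : Nat.card M % 3 = 1 := by
  have e := Nat.card_congr (Subgroup.subgroupOfEquivOfLe
    (Subgroup.le_normalizer : M ≤ Subgroup.normalizer (M : Set G))).toEquiv
  rw [← e]
  exact (h.subtype hM.1).normal_card_mod _ (by rw [e]; exact hM.2)

theorem isNilpotent (hM : Inv x M) (h : Hyp x) : Group.IsNilpotent M := by
  have hfix : ∀ m : M, x * (m : G) * x⁻¹ = m → m = 1 := fun m hm =>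
    Subtype.ext (h.eq_one_of_commute hM.2 m.2 ((mul_inv_eq_iff_eq_mul.1 hm).symm))
  let φ : MulAut M :=
    { toFun := fun m => ⟨x * (m : G) * x⁻¹, (Subgroup.mem_normalizer_iff.1 hM.1 _).1 m.2⟩
      invFun := fun m => ⟨x⁻¹ * (m : G) * x⁻¹⁻¹,
        (Subgroup.mem_normalizer_iff.1 (inv_mem hM.1) _).1 m.2⟩
      left_inv := fun m => Subtype.ext (by simp [mul_assoc])
      right_inv := fun m => Subtype.ext (by simp [mul_assoc])
      map_mul' := fun a b => Subtype.ext (by simp [mul_assoc]) }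
  refine CfsgLib.Complement.isNilpotent_of_fpf M φ 3 Nat.prime_three ?_
    fun m hm => hfix m (congrArg Subtype.val hm)
  ext m
  show x * (x * (x * (m : G) * x⁻¹) * x⁻¹) * x⁻¹ = m
  calc x * (x * (x * (m : G) * x⁻¹) * x⁻¹) * x⁻¹ = (x * x * x) * m * (x * x * x)⁻¹ := by group
    _ = m := by rw [h.pow_three, one_mul, inv_one, mul_one]

/-- An invariant subgroup of a subgroup is invariant inside it. -/
theorem subgroupOf {H : Subgroup G} (hxH : x ∈ H) (hM : Inv x M) (hMH : M ≤ H) :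
    Inv (⟨x, hxH⟩ : H) (M.subgroupOf H) := by
  refine ⟨?_, fun h3 => hM.2 ?_⟩
  · rw [Subgroup.mem_normalizer_iff]
    intro m
    simp only [Subgroup.mem_subgroupOf, Subgroup.coe_mul, InvMemClass.coe_inv]
    exact Subgroup.mem_normalizer_iff.1 hM.1 _
  · rwa [Nat.card_congr (Subgroup.subgroupOfEquivOfLe hMH).toEquiv] at h3

theorem map {H : Subgroup G} {hxH : x ∈ H} {S : Subgroup H} (hS : Inv (⟨x, hxH⟩ : H) S) :
    Inv x (S.map H.subtype) := by
  refine ⟨?_, fun h3 => hS.2 ?_⟩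
  · rw [Subgroup.mem_normalizer_iff]
    intro g
    constructor
    · rintro ⟨m, hm, rfl⟩
      exact ⟨⟨x, hxH⟩ * m * (⟨x, hxH⟩ : H)⁻¹, (Subgroup.mem_normalizer_iff.1 hS.1 m).1 hm, rfl⟩
    · rintro ⟨m, hm, hme⟩
      refine ⟨(⟨x, hxH⟩ : H)⁻¹ * m * ⟨x, hxH⟩, ?_, ?_⟩
      · have := (Subgroup.mem_normalizer_iff.1 hS.1 ((⟨x, hxH⟩ : H)⁻¹ * m * ⟨x, hxH⟩)).2
        exact this (by simpa [mul_assoc] using hm)
      · change (m : G) = x * g * x⁻¹ at hme
        show x⁻¹ * (m : G) * x = g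
        rw [hme]; group
  · rwa [Subgroup.card_map_of_injective H.subtype_injective] at h3

theorem inf {M' : Subgroup G} (hM : Inv x M) (hM' : x ∈ Subgroup.normalizer (M' : Set G)) :
    Inv x (M ⊓ M') := by
  refine ⟨?_, fun h3 => hM.2 (h3.trans (Subgroup.card_dvd_of_le inf_le_left))⟩
  rw [Subgroup.mem_normalizer_iff]
  intro g
  rw [Subgroup.mem_inf, Subgroup.mem_inf, Subgroup.mem_normalizer_iff.1 hM.1 g,
    Subgroup.mem_normalizer_iff.1 hM' g]

theorem normalizer_mem {g : G} (hg : g ∈ Subgroup.normalizer (M : Set G)) :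
    g ∈ Subgroup.normalizer ((Subgroup.normalizer (M : Set G) : Subgroup G) : Set G) :=
  Subgroup.le_normalizer hg

end Inv

/-- An element inverting `x`. -/
def IsInverter (x t : G) : Prop := t * t = 1 ∧ t * x * t⁻¹ = x⁻¹

namespace IsInverter

variable {t : G}

theorem inv_eq (ht : IsInverter x t) : t⁻¹ = t := inv_eq_of_mul_eq_one_right ht.1

theorem not_mem (ht : IsInverter x t) (h : Hyp x) {M : Subgroup G} (hM : Inv x M) : t ∉ M := by
  intro htM
  have h1 : t * x * t⁻¹ * x⁻¹ ∈ M := by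
    rw [mul_assoc t x, mul_assoc t]
    exact mul_mem htM ((Subgroup.mem_normalizer_iff.1 hM.1 _).1 (inv_mem htM))
  rw [ht.2] at h1
  have h2 := h.eq_one_of_commute hM.2 h1 (by group)
  have h3 : x = 1 := by
    calc x = x * x * x * (x⁻¹ * x⁻¹) := by group
      _ = 1 := by rw [h.pow_three, h2, one_mul]
  exact h.ne_one h3

theorem mul_mem_zpowers {s : G} (ht : IsInverter x t) (h : Hyp x) (hs : s * x * s⁻¹ = x⁻¹) :
    t * s ∈ Subgroup.zpowers x := by
  refine h.mem_of_commute ?_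
  have e : t * x⁻¹ * t⁻¹ = x := by
    calc t * x⁻¹ * t⁻¹ = (t * x * t⁻¹)⁻¹ := by group
      _ = x := by rw [ht.2, inv_inv]
  calc t * s * x = t * (s * x * s⁻¹) * t⁻¹ * (t * s) := by group
    _ = x * (t * s) := by rw [hs, e]

end IsInverter

theorem Hyp.conj_cases (h : Hyp x) {g : G} (hg : g * x * g⁻¹ ∈ Subgroup.zpowers x) :
    g ∈ Subgroup.zpowers x ∨ g * x * g⁻¹ = x⁻¹ := by
  rcases h.mem_zpowers_cases hg with e | e | e
  · exact absurd (conj_eq_one_iff.1 e) h.ne_one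
  · exact Or.inl (h.mem_of_commute (mul_inv_eq_iff_eq_mul.1 e))
  · exact Or.inr e

theorem Hyp.inverter_of_conj (h : Hyp x) {g : G} (hg : g * x * g⁻¹ = x⁻¹) : IsInverter x g := by
  refine ⟨?_, hg⟩
  have e : g * x⁻¹ * g⁻¹ = x := by
    calc g * x⁻¹ * g⁻¹ = (g * x * g⁻¹)⁻¹ := by group
      _ = x := by rw [hg, inv_inv]
  have hc : g * g * x = x * (g * g) := by
    calc g * g * x = g * (g * x * g⁻¹) * g⁻¹ * (g * g) := by group
      _ = x * (g * g) := by rw [hg, e]
  have e2 : g * (g * g) * g⁻¹ = g * g := by group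
  rcases h.mem_zpowers_cases (h.mem_of_commute hc) with e1 | e1 | e1
  · exact e1
  · exfalso
    rw [e1, hg] at e2
    exact h.ne_one (by
      calc x = x⁻¹ * (x * x) := by group
        _ = x * (x * x) := by rw [e2]
        _ = 1 := by rw [← mul_assoc, h.pow_three])
  · exfalso
    rw [e1, e] at e2
    exact h.ne_one (by
      calc x = x⁻¹ * (x * x) := by group
        _ = x * (x * x) := by rw [← e2]
        _ = 1 := by rw [← mul_assoc, h.pow_three])

/-- Without an inverting element there is a normal subgroup of index three. -/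
theorem Hyp.inverter_or_complement (h : Hyp x) :
    (∃ t, IsInverter x t) ∨ ∃ N : Subgroup G, N.Normal ∧ ¬ 3 ∣ Nat.card N ∧ N.index = 3 := by
  classical
  by_cases ht : ∃ g : G, g * x * g⁻¹ = x⁻¹
  · obtain ⟨g, hg⟩ := ht
    exact Or.inl ⟨g, h.inverter_of_conj hg⟩
  refine Or.inr ?_
  haveI : Fact (Nat.Prime 3) := ⟨Nat.prime_three⟩
  obtain ⟨P, hP⟩ := SelfCentralPrime.exists_sylow_eq h.ord h.cent
  have hle : Subgroup.normalizer ((P : Subgroup G) : Set G) ≤
      Subgroup.centralizer ((P : Subgroup G) : Set G) := by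
    intro g hg
    rw [hP] at hg ⊢
    rcases h.conj_cases ((Subgroup.mem_normalizer_iff.1 hg x).1 (Subgroup.mem_zpowers x)) with e | e
    · refine Subgroup.mem_centralizer_iff.2 fun y hy => ?_
      obtain ⟨k, rfl⟩ := Subgroup.mem_zpowers_iff.1 hy
      obtain ⟨j, rfl⟩ := Subgroup.mem_zpowers_iff.1 e
      rw [← zpow_add, ← zpow_add, add_comm]
    · exact absurd ⟨g, e⟩ ht
  obtain ⟨N, hN, hcop, hq⟩ := CfsgLib.Transfer.hasNormalPComplement_iff_exists.1
    (CfsgLib.Transfer.hasNormalPComplement_of_normalizer_le_centralizer P hle)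
  have h3 : ¬ 3 ∣ Nat.card N := (Nat.prime_three.coprime_iff_not_dvd).1 hcop.symm
  refine ⟨N, hN, h3, ?_⟩
  obtain ⟨k, hk⟩ := IsPGroup.iff_card.1 hq
  rw [← Subgroup.index_eq_card] at hk
  have hm := N.card_mul_index
  rw [hk] at hm
  match k, hk with
  | 0, hk => exact absurd (by rw [pow_zero, mul_one] at hm; rw [hm]; exact h.three_dvd) h3
  | 1, hk => rw [hk, pow_one]
  | k + 2, _ => exact absurd ⟨Nat.card N * 3 ^ k, by rw [← hm]; ring⟩ h.not_nine_dvd

theorem Hyp.isConj_of_orderOf (h : Hyp x) {t : G} (ht : IsInverter x t) {y : G}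
    (hy : orderOf y = 3) : IsConj x y := by
  haveI : Fact (Nat.Prime 3) := ⟨Nat.prime_three⟩
  obtain ⟨P, hP⟩ := SelfCentralPrime.exists_sylow_eq h.ord h.cent
  obtain ⟨Q, hQ⟩ := (IsPGroup.of_card (n := 1) (G := Subgroup.zpowers y)
    (by rw [Nat.card_zpowers, hy, pow_one])).exists_le_sylow
  obtain ⟨g, hg⟩ := MulAction.exists_smul_eq G Q P
  have hm : g * y * g⁻¹ ∈ Subgroup.zpowers x := by
    rw [← hP, ← hg, Sylow.coe_subgroup_smul, ← MulAut.conj_apply]
    exact Subgroup.smul_mem_pointwise_smul y _ (Q : Subgroup G) (hQ (Subgroup.mem_zpowers y))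
  rcases h.mem_zpowers_cases hm with e | e | e
  · rw [conj_eq_one_iff] at e
    rw [e, orderOf_one] at hy
    norm_num at hy
  · exact isConj_iff.2 ⟨g⁻¹, by rw [← e]; group⟩
  · refine isConj_iff.2 ⟨g⁻¹ * t, ?_⟩
    calc g⁻¹ * t * x * (g⁻¹ * t)⁻¹ = g⁻¹ * (t * x * t⁻¹) * g := by group
      _ = g⁻¹ * (g * y * g⁻¹) * g := by rw [ht.2, e]
      _ = y := by group

end CfsgLib.Recog.SelfCentThree
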