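import Cfsg.Agent.Lib.Recog.SelfCentThree.Small
import Cfsg.Agent.Lib.Transfer.ExcSimple
import Cfsg.Agent.Lib.Char.Column

/-!
Character values at the element of order three and at involutions, and the resulting counts.
-/

set_option autoImplicit false
set_option linter.unusedSectionVars false
set_option linter.style.haveILetI false

namespace CfsgLib.Recog.SelfCentThree

open Subgroup Cfsg CfsgLib CfsgLib.Char
open scoped ComplexConjugate

universe u

variable {G : Type u} [Group G] [Fintype G] {x t : G}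

theorem IsInverter.orderOf_eq (ht : IsInverter x t) (h : Hyp x) : orderOf t = 2 :=
  orderOf_eq_prime (by rw [sq, ht.1]) fun e => by
    have := ht.2
    rw [e, one_mul, inv_one, mul_one] at this
    exact h.ne_one (by
      calc x = x⁻¹ * (x * x) := by group
        _ = x * (x * x) := by rw [← this]
        _ = 1 := by rw [← mul_assoc, h.pow_three])

theorem IsInverter.mul_eq (ht : IsInverter x t) : x * t = t * x⁻¹ := by
  have e := ht.2
  rw [ht.inv_eq] at e
  calc x * t = t * (t * x * t) := by rw [← mul_assoc, ← mul_assoc, ht.1, one_mul]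
    _ = t * x⁻¹ := by rw [e]

theorem IsInverter.inv_mul_eq (ht : IsInverter x t) : x⁻¹ * t = t * x := by
  rw [← ht.2, inv_mul_cancel_right]

theorem IsInverter.isConj_inv (ht : IsInverter x t) : IsConj x x⁻¹ := isConj_iff.2 ⟨t, ht.2⟩

theorem card_normalizer_zpowers (h : Hyp x) (ht : IsInverter x t) :
    Nat.card ↥(Subgroup.normalizer ((Subgroup.zpowers x : Subgroup G) : Set G)) =
      2 * Nat.card (Subgroup.zpowers x) := by
  set N := Subgroup.normalizer ((Subgroup.zpowers x : Subgroup G) : Set G)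
  have hi : ((Subgroup.zpowers x).subgroupOf N).index = 2 := by
    rw [Subgroup.index_eq_two_iff]
    refine ⟨⟨t, ht.mem_normalizer⟩, fun b => ?_⟩
    simp only [Subgroup.mem_subgroupOf, Subgroup.coe_mul]
    have hnot : t ∉ Subgroup.zpowers x := by
      intro htm
      have h1 := orderOf_dvd_natCard (⟨t, htm⟩ : Subgroup.zpowers x)
      rw [Subgroup.orderOf_mk, h.card_zpowers, ht.orderOf_eq h] at h1
      norm_num at h1
    rcases h.conj_cases ((Subgroup.mem_normalizer_iff.1 b.2 x).1 (Subgroup.mem_zpowers x)) with e | e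
    · refine Or.inr ⟨e, fun hbt => hnot ?_⟩
      simpa using mul_mem (inv_mem e) hbt
    · have hbi := h.inverter_of_conj e
      refine Or.inl ⟨hbi.mul_mem_zpowers h ht.2, fun hb => ?_⟩
      have h1 := orderOf_dvd_natCard (⟨(b : G), hb⟩ : Subgroup.zpowers x)
      rw [Subgroup.orderOf_mk, h.card_zpowers, hbi.orderOf_eq h] at h1
      norm_num at h1
  have := ((Subgroup.zpowers x).subgroupOf N).index_mul_card
  rw [hi, Nat.card_congr (Subgroup.subgroupOfEquivOfLe Subgroup.le_normalizer).toEquiv] at this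
  exact this.symm

theorem centralizer_eq_of_mem (h : Hyp x) :
    ∀ y ∈ Subgroup.zpowers x, y ≠ 1 →
      Subgroup.centralizer ({y} : Set G) = Subgroup.zpowers x := by
  intro y hy hy1
  rcases h.mem_zpowers_cases hy with e | e | e
  · exact absurd e hy1
  · rw [e, h.cent]
  · subst e
    rw [← h.cent]
    ext g
    rw [Subgroup.mem_centralizer_singleton_iff, Subgroup.mem_centralizer_singleton_iff]
    exact ⟨fun e => by simpa using (Commute.inv_right (show Commute g x⁻¹ from e)).eq,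
      fun e => (Commute.inv_right (show Commute g x from e)).eq⟩

/-- The traces of the two projections attached to the normalizer of `⟨x⟩`. -/
theorem exists_ranks (h : Hyp x) {χ : G → ℂ} (hχ : Cfsg.IsCharacter G χ) {t : G}
    (ht : IsInverter x t) :
    (∃ k : ℕ, χ 1 + 2 * χ x = 3 * (k : ℂ)) ∧ (∃ k : ℕ, χ 1 + 2 * χ x + 3 * χ t = 6 * (k : ℂ)) ∧
      (∃ k : ℕ, χ 1 + 2 * χ x - 3 * χ t = 6 * (k : ℂ)) := by
  have hcl := isCharacter_isClassFunction hχ
  have c1 : χ (x * x) = χ x := by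
    rw [← h.inv_eq]; exact (isClassFunction_isConj hcl ht.isConj_inv).symm
  have hxt : x * t = t * x⁻¹ := by
    have e := ht.2
    rw [ht.inv_eq] at e
    calc x * t = t * (t * x * t) := by rw [← mul_assoc, ← mul_assoc, ht.1, one_mul]
      _ = t * x⁻¹ := by rw [e]
  have c2 : χ (x * t) = χ t := isClassFunction_isConj hcl (isConj_iff.2 ⟨x, by
    rw [show x * (x * t) * x⁻¹ = x * x * (t * x⁻¹) by group, ← hxt, ← mul_assoc, h.pow_three,
      one_mul]⟩)
  have c3 : χ (x * x * t) = χ t := isClassFunction_isConj hcl (isConj_iff.2 ⟨x⁻¹, by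
    rw [show x⁻¹ * (x * x * t) * x⁻¹⁻¹ = x * t * x by group, hxt, inv_mul_cancel_right]⟩)
  obtain ⟨n, ρ, rfl⟩ := hχ
  set a : Module.End ℂ (Fin n → ℂ) := ρ x with ha
  set s : Module.End ℂ (Fin n → ℂ) := ρ t with hs
  set A : Module.End ℂ (Fin n → ℂ) := 1 + a + a * a with hA
  have ha3 : a * a * a = 1 := by rw [ha, ← map_mul, ← map_mul, h.pow_three, map_one]
  have hs2 : s * s = 1 := by rw [hs, ← map_mul, ht.1, map_one]
  have hAA : A * A = (3 : ℂ) • A := by
    have h4 : a * (a * a) = 1 := by rw [← mul_assoc, ha3]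
    have h5 : a * a * (a * a) = a := by rw [← mul_assoc, ha3, one_mul]
    rw [hA]
    simp only [mul_add, add_mul, one_mul, mul_one, h4, h5, ha3]
    rw [show (3 : ℂ) = 1 + 1 + 1 by norm_num, add_smul, add_smul, one_smul]
    abel
  have hAs : A * s = s * A := by
    have e1 : a * s = s * (a * a) := by
      rw [ha, hs, ← map_mul, ← map_mul, ← map_mul, hxt, h.inv_eq]
    have e2 : a * a * s = s * a := by
      rw [mul_assoc, e1, ← mul_assoc, e1, mul_assoc, show a * a * (a * a) = a by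
        rw [← mul_assoc, ha3, one_mul]]
    rw [hA]
    simp only [mul_add, add_mul, one_mul, mul_one, e1, e2]
    abel
  have htr : ∀ g, LinearMap.trace ℂ (Fin n → ℂ) (ρ g) = ρ.character g := fun g => rfl
  have hone : LinearMap.trace ℂ (Fin n → ℂ) (1 : Module.End ℂ (Fin n → ℂ)) = ρ.character 1 := by
    rw [← htr, map_one ρ]
  have htrA : LinearMap.trace ℂ (Fin n → ℂ) A = ρ.character 1 + 2 * ρ.character x := by
    rw [hA, map_add, map_add, hone, ha, htr, ← map_mul, htr, c1]
    ring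
  have htrAs : LinearMap.trace ℂ (Fin n → ℂ) (A * s) = 3 * ρ.character t := by
    rw [hA, add_mul, add_mul, one_mul, map_add, map_add, hs, htr, ha, ← map_mul, htr, c2, ← map_mul,
      ← map_mul, htr, c3]
    ring
  have key : ∀ f : Module.End ℂ (Fin n → ℂ), f * f = f →
      ∃ k : ℕ, LinearMap.trace ℂ (Fin n → ℂ) f = (k : ℂ) := fun f hf =>
    ⟨_, ((LinearMap.isProj_range_iff_isIdempotentElem f).2 hf).trace⟩
  refine ⟨?_, ?_, ?_⟩
  · obtain ⟨k, hk⟩ := key ((3 : ℂ)⁻¹ • A) (by
      rw [smul_mul_smul_comm, hAA, smul_smul]; norm_num)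
    refine ⟨k, ?_⟩
    rw [map_smul, htrA, smul_eq_mul] at hk
    linear_combination 3 * hk
  · obtain ⟨k, hk⟩ := key ((6 : ℂ)⁻¹ • (A + A * s)) (by
      have : (A + A * s) * (A + A * s) = (6 : ℂ) • (A + A * s) := by
        have e : A + A * s = A * (1 + s) := by rw [mul_add, mul_one]
        have hc : Commute (1 + s) A := (Commute.one_left A).add_left hAs.symm
        have e2 : (1 + s) * (1 + s) = (2 : ℂ) • (1 + s) := by
          simp only [mul_add, add_mul, one_mul, mul_one, hs2]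
          rw [two_smul]
          abel
        rw [e, hc.mul_mul_mul_comm, hAA, e2, smul_mul_smul_comm]
        norm_num
      rw [smul_mul_smul_comm, this, smul_smul]; norm_num)
    refine ⟨k, ?_⟩
    rw [map_smul, map_add, htrA, htrAs, smul_eq_mul] at hk
    linear_combination 6 * hk
  · obtain ⟨k, hk⟩ := key ((6 : ℂ)⁻¹ • (A - A * s)) (by
      have : (A - A * s) * (A - A * s) = (6 : ℂ) • (A - A * s) := by
        have e : A - A * s = A * (1 - s) := by rw [mul_sub, mul_one]
        have hc : Commute (1 - s) A := (Commute.one_left A).sub_left hAs.symm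
        have e2 : (1 - s) * (1 - s) = (2 : ℂ) • (1 - s) := by
          simp only [mul_sub, sub_mul, one_mul, mul_one, hs2]
          rw [two_smul]
          abel
        rw [e, hc.mul_mul_mul_comm, hAA, e2, smul_mul_smul_comm]
        norm_num
      rw [smul_mul_smul_comm, this, smul_smul]; norm_num)
    refine ⟨k, ?_⟩
    rw [map_smul, map_sub, htrA, htrAs, smul_eq_mul] at hk
    linear_combination 6 * hk

theorem exists_int_at_x (h : Hyp x) (ht : IsInverter x t) (χ : IrrCharacter G) :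
    ∃ k : ℤ, (χ : G → ℂ) x = k := by
  obtain ⟨k, hk⟩ := (exists_ranks h (irr_isCharacter χ.2) ht).1
  rw [← BlockB.irr_degree_cast χ] at hk
  have hq : (χ : G → ℂ) x = (((3 * (k : ℚ) - (charDegree (χ : G → ℂ) : ℚ)) / 2 : ℚ) : ℂ) := by
    push_cast
    linear_combination hk / 2
  obtain ⟨m, hm⟩ := exists_int_of_isIntegral_rat (hq ▸ BlockB.irr_isIntegral χ x)
  exact ⟨m, by rw [hq, hm]; push_cast; ring⟩

/-- The data of the two nontrivial characters that do not vanish at `x`. -/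
structure CharData (x t : G) (φ ψ : IrrCharacter G) (d : ℕ) : Prop where
  ne : φ ≠ ψ
  φ_one : (φ : G → ℂ) 1 = d
  ψ_one : (ψ : G → ℂ) 1 = (d : ℂ) + 1
  φ_x : (φ : G → ℂ) x = 1
  ψ_x : (ψ : G → ℂ) x = -1
  φ_ne : (φ : G → ℂ) ≠ fun _ => 1
  ψ_ne : (ψ : G → ℂ) ≠ fun _ => 1
  zero : ∀ χ : IrrCharacter G, (χ : G → ℂ) ≠ (fun _ => 1) → χ ≠ φ → χ ≠ ψ → (χ : G → ℂ) x = 0
  d_pos : 0 < d

theorem exists_charData (h : Hyp x) (ht : IsInverter x t) :
    ∃ φ ψ d, CharData x t φ ψ d := by
  classical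
  have := Fintype.ofFinite (IrrCharacter G)
  choose a ha using exists_int_at_x h ht
  obtain ⟨one, hone⟩ : ∃ one : IrrCharacter G, one = ⟨fun _ => 1, isIrrCharacter_one⟩ := ⟨_, rfl⟩
  have ha1 : a one = 1 := by
    have h1 : (one : G → ℂ) x = 1 := by rw [hone]
    exact_mod_cast (ha one).symm.trans h1
  have hsum : ∑ χ, a χ ^ 2 = 3 := by
    have h1 := column_orthogonality x x
    rw [if_pos (IsConj.refl x), h.cent, h.card_zpowers] at h1
    have h2 : ((∑ χ, a χ ^ 2 : ℤ) : ℂ) = ((3 : ℤ) : ℂ) := by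
      push_cast
      rw [show (3 : ℂ) = ((3 : ℕ) : ℂ) by norm_num, ← h1]
      refine Finset.sum_congr rfl fun χ _ => ?_
      rw [ha χ]
      simp [sq]
    exact_mod_cast h2
  have hlin : ∑ χ : IrrCharacter G, (charDegree (χ : G → ℂ) : ℤ) * a χ = 0 := by
    have h1 := sum_irr_mul_degree x
    rw [if_neg h.ne_one] at h1
    have h2 : ((∑ χ : IrrCharacter G, (charDegree (χ : G → ℂ) : ℤ) * a χ : ℤ) : ℂ) = 0 := by
      push_cast
      rw [← h1]
      refine Finset.sum_congr rfl fun χ _ => ?_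
      rw [BlockB.irr_degree_cast, ha χ]
    exact_mod_cast h2
  rw [← Finset.add_sum_erase _ _ (Finset.mem_univ one)] at hsum hlin
  rw [ha1] at hsum hlin
  have hd1 : charDegree (one : G → ℂ) = 1 := by
    have h1 : (one : G → ℂ) 1 = 1 := by rw [hone]
    exact_mod_cast (BlockB.irr_degree_cast one).trans h1
  rw [hd1] at hlin
  set S := (Finset.univ.erase one).filter fun χ => a χ ≠ 0 with hSdef
  have hS2 : ∑ χ ∈ S, a χ ^ 2 = 2 := by
    rw [hSdef]
    refine (Finset.sum_filter_of_ne ?_).trans (by linarith)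
    intro χ _ hne h0
    exact hne (by rw [h0]; ring)
  have hSlin : ∑ χ ∈ S, (charDegree (χ : G → ℂ) : ℤ) * a χ = -1 := by
    rw [hSdef]
    refine (Finset.sum_filter_of_ne ?_).trans (by push_cast at hlin ⊢; linarith)
    intro χ _ hne h0
    exact hne (by rw [h0]; ring)
  have h1 : ∀ χ ∈ S, 1 ≤ a χ ^ 2 := fun χ hχ =>
    one_le_sq_iff_one_le_abs _ |>.2 (Int.one_le_abs (Finset.mem_filter.1 hχ).2)
  have hle : ∀ χ ∈ S, a χ ^ 2 ≤ 2 := fun χ hχ =>
    hS2 ▸ Finset.single_le_sum (fun _ _ => sq_nonneg _) hχ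
  have hpm : ∀ χ ∈ S, a χ = 1 ∨ a χ = -1 := fun χ hχ => by
    have h4 : a χ ≤ 1 := by nlinarith [hle χ hχ]
    have h5 : -1 ≤ a χ := by nlinarith [hle χ hχ]
    have := (Finset.mem_filter.1 hχ).2
    omega
  have hc2 : S.card = 2 := by
    have : ∑ χ ∈ S, a χ ^ 2 = ∑ χ ∈ S, (1 : ℤ) := Finset.sum_congr rfl fun χ hχ => by
      rcases hpm χ hχ with e | e <;> simp [e]
    rw [hS2, Finset.sum_const, nsmul_one] at this
    exact_mod_cast this.symm
  obtain ⟨φ, ψ, hne, hS⟩ := Finset.card_eq_two.1 hc2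
  rw [hS, Finset.sum_pair hne] at hSlin
  have hφ : φ ∈ S := by simp [hS]
  have hψ : ψ ∈ S := by simp [hS]
  have hnotone : ∀ χ ∈ S, (χ : G → ℂ) ≠ fun _ => 1 := fun χ hχ e =>
    Finset.ne_of_mem_erase (Finset.mem_filter.1 hχ).1 (hone ▸ Subtype.ext e)
  have hzero : ∀ χ : IrrCharacter G, (χ : G → ℂ) ≠ (fun _ => 1) → χ ≠ φ → χ ≠ ψ →
      (χ : G → ℂ) x = 0 := by
    intro χ h1' h2' h3'
    rw [ha χ]
    by_contra h0
    have : χ ∈ S := Finset.mem_filter.2 ⟨Finset.mem_erase.2 ⟨fun e => h1' (by rw [e, hone]),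
      Finset.mem_univ _⟩, fun e => h0 (by rw [e, Int.cast_zero])⟩
    rw [hS] at this
    simp only [Finset.mem_insert, Finset.mem_singleton] at this
    exact this.elim h2' h3'
  have hp1 := BlockB.irr_degree_pos φ
  have hp2 := BlockB.irr_degree_pos ψ
  rcases hpm φ hφ with e1 | e1 <;> rcases hpm ψ hψ with e2 | e2 <;> rw [e1, e2] at hSlin
  · omega
  · refine ⟨φ, ψ, charDegree (φ : G → ℂ), hne, (BlockB.irr_degree_cast φ).symm, ?_, by rw [ha, e1]; simp,
      by rw [ha, e2]; simp, hnotone φ hφ, hnotone ψ hψ, hzero, hp1⟩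
    rw [← BlockB.irr_degree_cast ψ, show charDegree (ψ : G → ℂ) = charDegree (φ : G → ℂ) + 1 by omega]
    push_cast; ring
  · refine ⟨ψ, φ, charDegree (ψ : G → ℂ), hne.symm, (BlockB.irr_degree_cast ψ).symm, ?_,
      by rw [ha, e2]; simp, by rw [ha, e1]; simp, hnotone ψ hψ, hnotone φ hφ,
      fun χ a b c => hzero χ a c b, hp2⟩
    rw [← BlockB.irr_degree_cast φ, show charDegree (φ : G → ℂ) = charDegree (ψ : G → ℂ) + 1 by omega]
    push_cast; ring
  · omega

namespace CharData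

variable {φ ψ : IrrCharacter G} {d : ℕ}

theorem sum_x (D : CharData x t φ ψ d) [Fintype (IrrCharacter G)] (F : IrrCharacter G → ℂ) :
    ∑ χ, F χ * (χ : G → ℂ) x =
      F ⟨fun _ => 1, isIrrCharacter_one⟩ + F φ - F ψ := by
  classical
  obtain ⟨one, hone⟩ : ∃ one : IrrCharacter G, one = ⟨fun _ => 1, isIrrCharacter_one⟩ := ⟨_, rfl⟩
  rw [← hone]
  have h1 : one ≠ φ := fun e => D.φ_ne (by rw [← e, hone])
  have h2 : one ≠ ψ := fun e => D.ψ_ne (by rw [← e, hone])
  rw [← Finset.sum_subset (Finset.subset_univ {one, φ, ψ}) fun χ _ hχ => ?_,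
    Finset.sum_insert (by simp [h1, h2]), Finset.sum_pair D.ne, D.φ_x, D.ψ_x, hone]
  · ring
  · simp only [Finset.mem_insert, Finset.mem_singleton, not_or] at hχ
    rw [D.zero χ (fun e => hχ.1 (hone ▸ Subtype.ext e)) hχ.2.1 hχ.2.2, mul_zero]

theorem conj_x (h : Hyp x) (ht : IsInverter x t) (χ : IrrCharacter G) :
    conj ((χ : G → ℂ) x) = (χ : G → ℂ) x := by
  obtain ⟨k, hk⟩ := exists_int_at_x h ht χ
  simp [hk]

/-- The two characters differ by one away from the class of `x`. -/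
theorem ψ_eq (D : CharData x t φ ψ d) (h : Hyp x) (ht : IsInverter x t) {g : G} (hg : ¬ IsConj g x) :
    (ψ : G → ℂ) g = (φ : G → ℂ) g + 1 := by
  have := Fintype.ofFinite (IrrCharacter G)
  have h1 := column_orthogonality g x
  rw [if_neg hg] at h1
  simp only [conj_x h ht, D.sum_x] at h1
  linear_combination -h1

open scoped Classical in
theorem card_products (D : CharData x t φ ψ d) (h : Hyp x) (ht : IsInverter x t) (a b : G) :
    ((Finset.univ.filter fun g : G => IsConj (a * (g * b * g⁻¹)) x).card : ℂ) =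
      (Nat.card G : ℂ) / 3 * (1 + (φ : G → ℂ) a * (φ : G → ℂ) b / d -
        (ψ : G → ℂ) a * (ψ : G → ℂ) b / (d + 1)) := by
  have := Fintype.ofFinite (IrrCharacter G)
  have h1 := BlockB.sum_classFun_mul_conj (classIndicator_isClassFunction (ConjClasses.mk x)) a b
  have hl : ∑ g : G, classIndicator (ConjClasses.mk x) (a * (g * b * g⁻¹)) =
      ((Finset.univ.filter fun g : G => IsConj (a * (g * b * g⁻¹)) x).card : ℂ) := by
    rw [← Finset.sum_boole]
    exact Finset.sum_congr rfl fun g _ => by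
      simp [classIndicator, ConjClasses.mk_eq_mk_iff_isConj]
  rw [hl] at h1
  rw [h1]
  have hG : (Nat.card G : ℂ) ≠ 0 := natCard_ne_zero
  have hc : (Nat.card (ConjClasses.mk x).carrier : ℂ) = (Nat.card G : ℂ) / 3 := by
    have := natCard_carrier_mul_centralizer x
    rw [h.cent, h.card_zpowers] at this
    rw [← this]; push_cast; ring
  have h2 : ∀ χ : IrrCharacter G, Cfsg.classInner (classIndicator (ConjClasses.mk x)) (χ : G → ℂ) *
      (χ : G → ℂ) a * (χ : G → ℂ) b / (χ : G → ℂ) 1 =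
      ((3 : ℂ)⁻¹ * ((χ : G → ℂ) a * (χ : G → ℂ) b / (χ : G → ℂ) 1)) * (χ : G → ℂ) x := by
    intro χ
    rw [classInner_def, sum_classIndicator_mul _ _ (irr_isClassFunction χ.2) x rfl, conj_x h ht, hc]
    field_simp
  rw [Finset.sum_congr rfl fun χ _ => h2 χ, D.sum_x]
  simp only [D.φ_one, D.ψ_one]
  ring

variable [IsSimpleGroup G]

/-- All involutions are conjugate. -/
theorem isConj_of_involution (D : CharData x t φ ψ d) (h : Hyp x) (ht : IsInverter x t) {u : G}
    (hu : u * u = 1) (hu1 : u ≠ 1) : IsConj t u := by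
  classical
  by_contra hn
  have hnx : ∀ g : G, g * g = 1 → ¬ IsConj g x := fun g hg hc => by
    obtain ⟨c, hc⟩ := isConj_iff.1 hc
    have h1 : x * x = 1 := by
      rw [← hc, show c * g * c⁻¹ * (c * g * c⁻¹) = c * (g * g) * c⁻¹ by group, hg]; group
    have := h.pow_three
    rw [h1, one_mul] at this
    exact h.ne_one this
  have h1 := D.card_products h ht t u
  have h0 : (Finset.univ.filter fun g : G => IsConj (t * (g * u * g⁻¹)) x) = ∅ := by
    rw [Finset.filter_eq_empty_iff]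
    intro g _ hc
    obtain ⟨c, hc⟩ := isConj_iff.1 hc
    -- the second involution inverts `x` after conjugation
    have hw : (c * (g * u * g⁻¹) * c⁻¹) * (c * (g * u * g⁻¹) * c⁻¹) = 1 := by
      rw [show c * (g * u * g⁻¹) * c⁻¹ * (c * (g * u * g⁻¹) * c⁻¹) = c * g * (u * u) * g⁻¹ * c⁻¹ by
        group, hu]
      group
    have hinv : IsInverter x (c * (g * u * g⁻¹) * c⁻¹) := by
      refine ⟨hw, ?_⟩
      rw [← hc]
      have hti := ht.inv_eq
      calc c * (g * u * g⁻¹) * c⁻¹ * (c * (t * (g * u * g⁻¹)) * c⁻¹) * (c * (g * u * g⁻¹) * c⁻¹)⁻¹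
          = c * (g * u * g⁻¹) * t * c⁻¹ := by group
        _ = c * (g * u⁻¹ * g⁻¹) * t⁻¹ * c⁻¹ := by rw [hti, inv_eq_of_mul_eq_one_right hu]
        _ = _ := by group
    have hm := ht.mul_mem_zpowers h hinv.2
    refine hn ?_
    have e : c * (g * u * g⁻¹) * c⁻¹ = t * (t * (c * (g * u * g⁻¹) * c⁻¹)) := by
      rw [← mul_assoc t t, ht.1, one_mul]
    have hcu : IsConj u (c * (g * u * g⁻¹) * c⁻¹) := isConj_iff.2 ⟨c * g, by group⟩
    refine IsConj.trans ?_ hcu.symm
    rw [e]
    rcases h.mem_zpowers_cases hm with e1 | e1 | e1 <;> rw [e1]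
    · rw [mul_one]
    · refine isConj_iff.2 ⟨x, ?_⟩
      rw [ht.mul_eq, mul_assoc, h.inv_eq, show x * x * (x * x) = x * (x * x * x) by group,
        h.pow_three, mul_one]
    · refine isConj_iff.2 ⟨x⁻¹, ?_⟩
      rw [ht.inv_mul_eq, inv_inv, mul_assoc, h.inv_eq]
  rw [h0, Finset.card_empty, Nat.cast_zero, D.ψ_eq h ht (hnx t ht.1), D.ψ_eq h ht (hnx u hu)] at h1
  have hG : (Nat.card G : ℂ) ≠ 0 := natCard_ne_zero
  have hd : (d : ℂ) ≠ 0 := Nat.cast_ne_zero.2 D.d_pos.ne'
  have hd1 : (d : ℂ) + 1 ≠ 0 := by exact_mod_cast Nat.succ_ne_zero d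
  field_simp at h1
  have h1' := (mul_eq_zero.1 (h1.symm.trans (by ring : (0 : ℂ) * 3 * d * (d + 1) = 0))).resolve_left hG
  have h2 : ((d : ℂ) - (φ : G → ℂ) t) * ((d : ℂ) - (φ : G → ℂ) u) = 0 := by
    linear_combination h1' 
  rcases mul_eq_zero.1 h2 with e | e
  · exact Transfer.irr_apply_ne_apply_one φ D.φ_ne (x := t) (by
      intro e'; have := ht.orderOf_eq h; rw [e', orderOf_one] at this; norm_num at this)
      (by rw [D.φ_one]; linear_combination -e)
  · exact Transfer.irr_apply_ne_apply_one φ D.φ_ne hu1 (by rw [D.φ_one]; linear_combination -e)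

/-- The order is more than one and a half times the square of an involution centralizer. -/
theorem three_mul_sq_lt (D : CharData x t φ ψ d) (h : Hyp x) (ht : IsInverter x t)
    (hG : ¬ IsMulCommutative G) :
    3 * Nat.card (Subgroup.centralizer ({t} : Set G)) ^ 2 < 2 * Nat.card G := by
  classical
  set c := Nat.card (Subgroup.centralizer ({t} : Set G))
  have hk := Transfer.card_prod_conj (Subgroup.zpowers x) (centralizer_eq_of_mem h)
    (by rw [h.card_zpowers]; decide) (card_normalizer_zpowers h ht) (ht.orderOf_eq h)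
    ht.mem_normalizer (Subgroup.mem_zpowers x) h.ne_one
  have h1 := D.card_products h ht t t
  have hk' : (Finset.univ.filter fun g : G => IsConj (t * (g * t * g⁻¹)) x).card = c ^ 2 := by
    convert hk using 3
  rw [hk', Nat.cast_pow] at h1
  obtain ⟨-, ⟨k₁, hk₁⟩, k₂, hk₂⟩ := exists_ranks h (irr_isCharacter φ.2) ht
  obtain ⟨a, ha⟩ := Transfer.exists_int_char_involution (irr_isCharacter φ.2) ht.1
  rw [D.φ_one, D.φ_x, ha] at hk₁ hk₂
  have hk₁' : (d : ℤ) + 2 + 3 * a = 6 * k₁ := by exact_mod_cast (show _ = _ by linear_combination hk₁ : (d : ℂ) + 2 + 3 * (a : ℂ) = 6 * (k₁ : ℂ))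
  have hk₂' : (d : ℤ) + 2 - 3 * a = 6 * k₂ := by exact_mod_cast (show _ = _ by linear_combination hk₂ : (d : ℂ) + 2 - 3 * (a : ℂ) = 6 * (k₂ : ℂ))
  have hnx : ¬ IsConj t x := fun hc => by
    obtain ⟨g, hg⟩ := isConj_iff.1 hc
    have h1 : x * x = 1 := by
      rw [← hg, show g * t * g⁻¹ * (g * t * g⁻¹) = g * (t * t) * g⁻¹ by group, ht.1]; group
    have := h.pow_three
    rw [h1, one_mul] at this
    exact h.ne_one this
  rw [D.ψ_eq h ht hnx, ha] at h1
  have hd : (d : ℂ) ≠ 0 := Nat.cast_ne_zero.2 D.d_pos.ne'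
  have hd1 : (d : ℂ) + 1 ≠ 0 := by exact_mod_cast Nat.succ_ne_zero d
  field_simp at h1
  have h2 : (3 : ℤ) * (c : ℤ) ^ 2 * ((d : ℤ) * (d + 1)) = (Nat.card G : ℤ) * ((d : ℤ) - a) ^ 2 := by
    have : ((3 * (c : ℤ) ^ 2 * ((d : ℤ) * (d + 1)) : ℤ) : ℂ) =
        (((Nat.card G : ℤ) * ((d : ℤ) - a) ^ 2 : ℤ) : ℂ) := by
      push_cast at h1 ⊢
      linear_combination h1
    exact_mod_cast this
  have hd2 : (2 : ℤ) ≤ d := by
    have := Transfer.irr_apply_one_ne_one hG φ D.φ_ne
    rw [D.φ_one] at this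
    have h' : d ≠ 1 := fun e => this (by rw [e, Nat.cast_one])
    have := D.d_pos
    omega
  have hkey : ((d : ℤ) - a) ^ 2 < 2 * ((d : ℤ) * (d + 1)) := by
    have e1 : (3 * ((d : ℤ) - a)) * (3 * ((d : ℤ) - a)) ≤ (4 * (d : ℤ) + 2) * (4 * d + 2) :=
      mul_le_mul (by omega) (by omega) (by omega) (by omega)
    nlinarith [mul_le_mul hd2 hd2 (by norm_num) (by omega)]
  have hn : (0 : ℤ) < Nat.card G := by exact_mod_cast Nat.card_pos
  have h3 : (3 : ℤ) * (c : ℤ) ^ 2 * ((d : ℤ) * (d + 1)) <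
      2 * (Nat.card G : ℤ) * ((d : ℤ) * (d + 1)) := by nlinarith
  have h4 : (3 : ℤ) * (c : ℤ) ^ 2 < 2 * (Nat.card G : ℤ) :=
    lt_of_mul_lt_mul_right h3 (by positivity)
  exact_mod_cast h4

open scoped Classical in
/-- More than a ninth of the group splits `x` into two conjugates. -/
theorem lt_nine_mul_pairs (D : CharData x t φ ψ d) (h : Hyp x) (ht : IsInverter x t) :
    Nat.card G < 9 * (Finset.univ.filter fun v : G => IsConj x v ∧ IsConj x (v⁻¹ * x)).card := by
  set P := Finset.univ.filter fun v : G => IsConj x v ∧ IsConj x (v⁻¹ * x) with hP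
  have h1 := D.card_products h ht x x
  -- fibres over the conjugates `v` with `x * v` conjugate to `x`
  set Q := Finset.univ.filter fun v : G => IsConj x v ∧ IsConj (x * v) x with hQ
  have hfib : (Finset.univ.filter fun g : G => IsConj (x * (g * x * g⁻¹)) x).card = 3 * Q.card := by
    rw [Finset.card_eq_sum_card_fiberwise (f := fun g : G => g * x * g⁻¹) (t := Q)]
    · rw [Finset.sum_const_nat (m := 3)]
      · ring
      intro v hv
      obtain ⟨hv1, hv2⟩ := (Finset.mem_filter.1 hv).2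
      rw [Finset.filter_filter, show ((Finset.univ : Finset G).filter fun g =>
          IsConj (x * (g * x * g⁻¹)) x ∧ g * x * g⁻¹ = v) =
          Finset.univ.filter fun g : G => g * x * g⁻¹ = v from Finset.filter_congr fun g _ =>
            and_iff_right_of_imp fun e => e ▸ hv2,
        Transfer.card_conj_filter, if_pos hv1, h.cent, h.card_zpowers]
    · intro g hg
      exact Finset.mem_filter.2 ⟨Finset.mem_univ _, isConj_iff.2 ⟨g, rfl⟩,
        (Finset.mem_filter.1 hg).2⟩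
  have hPQ : Q.card = P.card := by
    refine Finset.card_bij (fun v _ => v⁻¹) (fun v hv => ?_) (fun a _ b _ e => inv_injective e) ?_
    · obtain ⟨hv1, hv2⟩ := (Finset.mem_filter.1 hv).2
      refine Finset.mem_filter.2 ⟨Finset.mem_univ _, ?_, ?_⟩
      · obtain ⟨g, hg⟩ := isConj_iff.1 hv1
        exact ht.isConj_inv.trans (isConj_iff.2 ⟨g, by rw [← hg]; group⟩)
      · rw [inv_inv]
        exact hv2.symm.trans (isConj_iff.2 ⟨x⁻¹, by group⟩)
    · intro u hu
      obtain ⟨hu1, hu2⟩ := (Finset.mem_filter.1 hu).2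
      refine ⟨u⁻¹, Finset.mem_filter.2 ⟨Finset.mem_univ _, ?_, ?_⟩, inv_inv u⟩
      · obtain ⟨g, hg⟩ := isConj_iff.1 hu1
        exact ht.isConj_inv.trans (isConj_iff.2 ⟨g, by rw [← hg]; group⟩)
      · exact ((IsConj.trans (isConj_iff.2 ⟨x⁻¹, by group⟩ : IsConj (x * u⁻¹) (u⁻¹ * x)) hu2.symm))
  rw [hfib, hPQ, D.φ_x, D.ψ_x] at h1
  have hd : (d : ℂ) ≠ 0 := Nat.cast_ne_zero.2 D.d_pos.ne'
  have hd1 : (d : ℂ) + 1 ≠ 0 := by exact_mod_cast Nat.succ_ne_zero d
  push_cast at h1
  field_simp at h1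
  have h2 : (9 : ℤ) * P.card * ((d : ℤ) * (d + 1)) = (Nat.card G : ℤ) * ((d : ℤ) * (d + 1) + 1) := by
    have : (((9 : ℤ) * P.card * ((d : ℤ) * (d + 1)) : ℤ) : ℂ) =
        (((Nat.card G : ℤ) * ((d : ℤ) * (d + 1) + 1) : ℤ) : ℂ) := by
      push_cast
      linear_combination h1
    exact_mod_cast this
  have hn : (0 : ℤ) < Nat.card G := by exact_mod_cast Nat.card_pos
  have h3 : (Nat.card G : ℤ) < 9 * P.card :=
    lt_of_mul_lt_mul_right (a := (d : ℤ) * (d + 1)) (by nlinarith) (by positivity)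
  exact_mod_cast h3

end CharData

end CfsgLib.Recog.SelfCentThree
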