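import Cfsg.Agent.Lib.Recog.SelfCentThree.Small
import Cfsg.Agent.Lib.Char.CNStructure
import Cfsg.Agent.Lib.Block.BRTheorem
import Cfsg.Agent.Lib.Geom.SimpleSixty
import Cfsg.Agent.Lib.ClassK.SmallSimple
import Cfsg.Agent.Lib.Classical.SLTwoSylow
import Cfsg.Agent.S3050

/-!
The possible structures, extensions of the two simple groups, and the non-simple case.
-/

set_option autoImplicit false
set_option linter.unusedSectionVars false
set_option linter.style.haveILetI false

namespace CfsgLib.Recog.SelfCentThree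

open Subgroup

universe u

variable {G : Type u} [Group G] [Finite G] {x : G}

/-- The three possible structures. -/
def Conc (G : Type u) [Group G] : Prop :=
  (∃ (N : Subgroup G) (_ : N.Normal), Group.IsNilpotent N ∧ ¬ 3 ∣ Nat.card N ∧
      (N.index = 3 ∨ N.index = 6)) ∨
  (∃ (E : Subgroup G) (_ : E.Normal), (∀ a ∈ E, a * a = 1) ∧ IsSimpleGroup (G ⧸ E) ∧ E.index = 60) ∨
  (IsSimpleGroup G ∧ Nat.card G = 168)

theorem Inv.comap {H : Type*} [Group H] [Finite H] {f : G →* H} (hf : Function.Surjective f)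
    (hK : ¬ 3 ∣ Nat.card f.ker) {W : Subgroup H} (hW : Inv (f x) W) :
    Inv x (W.comap f) ∧ Nat.card (W.comap f) = Nat.card f.ker * Nat.card W := by
  have hcard : Nat.card (W.comap f) = Nat.card f.ker * Nat.card W := by
    have h1 := (W.comap f).card_mul_index
    rw [Subgroup.index_comap_of_surjective W hf] at h1
    have h2 := f.ker.card_mul_index
    rw [Subgroup.index_ker, MonoidHom.range_eq_top.2 hf, Subgroup.card_top, ← W.card_mul_index,
      ← mul_assoc] at h2
    exact Nat.eq_of_mul_eq_mul_right (Nat.pos_of_ne_zero Subgroup.index_ne_zero_of_finite)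
      (h1.trans h2.symm)
  refine ⟨⟨?_, fun h3 => ?_⟩, hcard⟩
  · rw [Subgroup.mem_normalizer_iff]
    intro g
    simp only [Subgroup.mem_comap, map_mul, map_inv]
    exact Subgroup.mem_normalizer_iff.1 hW.1 _
  · rw [hcard] at h3
    exact (Nat.prime_three.dvd_mul.1 h3).elim hK hW.2

theorem IsInverter.map {H : Type*} [Group H] {t : G} (ht : IsInverter x t) (f : G →* H) :
    IsInverter (f x) (f t) :=
  ⟨by rw [← map_mul, ht.1, map_one], by rw [← map_mul, ← map_inv, ← map_mul, ht.2, map_inv]⟩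

/-- An invariant `p`-subgroup of a simple quotient forces the kernel to be a `p`-group. -/
theorem isPGroup_of_quotient (h : Hyp x) {K : Subgroup G} [K.Normal] (hK : ¬ 3 ∣ Nat.card K)
    [IsSimpleGroup (G ⧸ K)] {W : Subgroup (G ⧸ K)} (hW : Inv (QuotientGroup.mk x : G ⧸ K) W)
    {p : ℕ} [hp : Fact p.Prime] (hWp : IsPGroup p W) (hW1 : W ≠ ⊥) : IsPGroup p K := by
  classical
  set f := QuotientGroup.mk' K with hf
  have hfs : Function.Surjective f := QuotientGroup.mk'_surjective K
  have hker : f.ker = K := QuotientGroup.ker_mk' K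
  obtain ⟨hV, -⟩ := Inv.comap (x := x) hfs (by rw [hker]; exact hK) hW
  have hKV : K ≤ W.comap f := fun k hk => by
    rw [Subgroup.mem_comap, hf, QuotientGroup.mk'_apply, (QuotientGroup.eq_one_iff k).2 hk]
    exact one_mem W
  have hnilV := hV.isNilpotent h
  -- a `p`-element outside the kernel
  obtain ⟨g, hgV, hgK, j, hgj⟩ : ∃ g ∈ W.comap f, g ∉ K ∧ ∃ j, orderOf g = p ^ j := by
    obtain ⟨⟨w, hw⟩, hw1⟩ : ∃ w : W, w ≠ 1 := by
      have : Nontrivial W := (Subgroup.nontrivial_iff_ne_bot W).2 hW1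
      exact exists_ne 1
    obtain ⟨g, rfl⟩ := hfs w
    obtain ⟨i, hi⟩ := (IsPGroup.iff_orderOf).1 hWp ⟨f g, hw⟩
    rw [Subgroup.orderOf_mk] at hi
    have hn : orderOf g ≠ 0 := (orderOf_pos g).ne'
    refine ⟨g ^ (orderOf g / p ^ (orderOf g).factorization p), pow_mem (show g ∈ W.comap f from hw) _,
      fun hmem => ?_, (orderOf g).factorization p, ?_⟩
    · have h1 : f g ^ (orderOf g / p ^ (orderOf g).factorization p) = 1 := by
        rw [← map_pow, hf, QuotientGroup.mk'_apply, (QuotientGroup.eq_one_iff _).2 hmem]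
      have h2 := orderOf_dvd_of_pow_eq_one h1
      rw [hi] at h2
      have h3 : p ^ i = 1 := Nat.eq_one_of_dvd_coprimes
        ((Nat.coprime_ordCompl hp.out hn).pow_left i) dvd_rfl h2
      rw [h3, orderOf_eq_one_iff] at hi
      exact hw1 (Subtype.ext hi)
    · rw [orderOf_pow, Nat.gcd_eq_right (Nat.ordCompl_dvd _ _)]
      exact Nat.div_eq_of_eq_mul_left (Nat.ordCompl_pos p hn) (Nat.ordProj_mul_ordCompl_eq_self _ _).symm
  -- another prime dividing the order of the kernel
  by_contra hnp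
  obtain ⟨q, hq, hqK, hqp⟩ : ∃ q, q.Prime ∧ q ∣ Nat.card K ∧ q ≠ p := by
    by_contra hall
    push Not at hall
    exact hnp (IsPGroup.of_card (n := (Nat.card K).primeFactorsList.length)
      (Nat.eq_prime_pow_of_unique_prime_dvd Nat.card_pos.ne' fun {d} hd hdvd => hall d hd hdvd))
  haveI := Fact.mk hq
  have hKinv : Inv x K := ⟨by rw [Subgroup.normalizer_eq_top_iff.2 ‹K.Normal›]; trivial, hK⟩
  haveI := hKinv.isNilpotent h
  obtain ⟨Q⟩ : Nonempty (Sylow q K) := inferInstance
  haveI : (Q : Subgroup K).Characteristic := Sylow.characteristic_of_normal Q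
    (Sylow.normal_of_normalizerCondition Group.normalizerCondition_of_isNilpotent Q)
  haveI hLn : ((Q : Subgroup K).map K.subtype).Normal := inferInstance
  set L := (Q : Subgroup K).map K.subtype
  have hLK : L ≤ K := Subgroup.map_subtype_le _
  have hgC : g ∈ Subgroup.centralizer (L : Set G) := by
    refine Subgroup.mem_centralizer_iff.2 fun l hl => ?_
    obtain ⟨l', hl', rfl⟩ := hl
    refine CfsgLib.Char.commute_of_isNilpotent_subgroup hnilV (hKV l'.2) hgV ?_
    obtain ⟨i, hi⟩ := (IsPGroup.iff_orderOf).1 Q.2 ⟨l', hl'⟩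
    rw [Subgroup.orderOf_mk] at hi
    rw [orderOf_injective _ K.subtype_injective, hi, hgj]
    exact ((Nat.coprime_primes hq hp.out).2 hqp).pow i j
  have htop : (Subgroup.centralizer (L : Set G)).map f = ⊤ := by
    rcases IsSimpleGroup.eq_bot_or_eq_top_of_normal _
      (Subgroup.Normal.map (inferInstance : (Subgroup.centralizer (L : Set G)).Normal) f hfs) with e | e
    · exfalso
      refine hgK ((QuotientGroup.eq_one_iff g).1 ?_)
      rw [← Subgroup.mem_bot, ← e]
      exact Subgroup.mem_map_of_mem f hgC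
    · exact e
  have hxC : x ∈ Subgroup.centralizer (L : Set G) := by
    set C := Subgroup.centralizer (L : Set G)
    let π : K →* G ⧸ C := (QuotientGroup.mk' C).comp K.subtype
    have hπ : Function.Surjective π := by
      intro z
      obtain ⟨a, rfl⟩ := QuotientGroup.mk'_surjective C z
      obtain ⟨c, hc, hce⟩ := (htop ▸ Subgroup.mem_top (f a) : f a ∈ C.map f)
      refine ⟨⟨c⁻¹ * a, QuotientGroup.eq.1 hce⟩, ?_⟩
      show QuotientGroup.mk' C (c⁻¹ * a) = QuotientGroup.mk' C a
      rw [map_mul, map_inv, QuotientGroup.mk'_apply, (QuotientGroup.eq_one_iff c).2 hc, inv_one,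
        one_mul]
    rw [← QuotientGroup.eq_one_iff, ← orderOf_eq_one_iff]
    refine Nat.eq_one_of_dvd_coprimes ((Nat.prime_three.coprime_iff_not_dvd).2 hK)
      (orderOf_dvd_of_pow_eq_one ?_)
      ((_root_.orderOf_dvd_natCard _).trans (Subgroup.card_dvd_of_surjective π hπ))
    rw [← QuotientGroup.mk_pow, ← h.ord, pow_orderOf_eq_one, QuotientGroup.mk_one]
  obtain ⟨⟨l, hl⟩, hl1⟩ : ∃ l : (Q : Subgroup K), l ≠ 1 := by
    have : Nontrivial (Q : Subgroup K) := (Subgroup.nontrivial_iff_ne_bot _).2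
      (Sylow.ne_bot_of_dvd_card Q hqK)
    exact exists_ne 1
  refine hl1 (Subtype.ext (Subtype.ext ?_))
  exact h.eq_one_of_commute hK l.2
    (Subgroup.mem_centralizer_iff.1 hxC _ (Subgroup.mem_map_of_mem _ hl))

theorem simple_sixty_not_comm {Q : Type*} [Group Q] [Finite Q] [IsSimpleGroup Q] (hc : Nat.card Q = 60) :
    ¬ IsMulCommutative Q :=
  CfsgLib.Transfer.not_isMulCommutative_of_not_prime (by rw [hc]; norm_num)

/-- Over a simple quotient of order 60 the kernel is elementary abelian. -/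
theorem elementary_of_quotient_sixty (h : Hyp x) {K : Subgroup G} [K.Normal] (hK : ¬ 3 ∣ Nat.card K)
    [IsSimpleGroup (G ⧸ K)] (hi : K.index = 60) : ∀ a ∈ K, a * a = 1 := by
  classical
  haveI : Fact (Nat.Prime 2) := ⟨Nat.prime_two⟩
  have hq := h.quotient K hK
  have hc : Nat.card (G ⧸ K) = 60 := hi
  obtain ⟨W, hW, hW4⟩ := exists_inv_four_sixty hq hc (simple_sixty_not_comm hc)
  have hK2 : IsPGroup 2 K := isPGroup_of_quotient h hK hW (p := 2)
    (IsPGroup.of_card (n := 2) (by rw [hW4]; rfl))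
    (fun e => by rw [e, Subgroup.card_bot] at hW4; omega)
  letI : Fintype (GaloisField 2 2) := Fintype.ofFinite _
  have hF4 : Fintype.card (GaloisField 2 2) = 2 ^ 2 := by
    rw [← Nat.card_eq_fintype_card, GaloisField.card 2 2 (by norm_num)]
  obtain ⟨e1⟩ := CfsgLib.Block.BrauerReynolds.psl_equiv_sl_char_two (GaloisField 2 2) (m := 2)
    (by norm_num) hF4
  haveI := CfsgLib.ClassK.isSimpleGroup_psl_two (F := GaloisField 2 2) (by rw [hF4]; norm_num)
  have h60 : Nat.card (Matrix.ProjectiveSpecialLinearGroup (Fin 2) (GaloisField 2 2)) = 60 := by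
    rw [Nat.card_congr e1.toEquiv, CfsgLib.Classical.card_sl_two_eq, hF4]; norm_num
  obtain ⟨a1⟩ := CfsgLib.Geom.equiv_altFive_of_simple_sixty h60
  obtain ⟨a2⟩ := CfsgLib.Geom.equiv_altFive_of_simple_sixty hc
  obtain ⟨hel, -⟩ := Cfsg.Agent.S3050.result K hK2 2 le_rfl (GaloisField 2 2) hF4
    ((a2.trans a1.symm).trans e1) x h.ord fun q hq' e =>
      h.eq_one_of_commute hK hq' (mul_inv_eq_iff_eq_mul.1 e).symm
  intro a ha
  rw [← sq]
  exact hel.2 a ha

/-- A simple quotient of order 168 has trivial kernel. -/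
theorem bot_of_quotient_168 (h : Hyp x) {K : Subgroup G} [K.Normal] (hK : ¬ 3 ∣ Nat.card K)
    [IsSimpleGroup (G ⧸ K)] (hi : K.index = 168) : K = ⊥ := by
  have hq := h.quotient K hK
  haveI : Fact (Nat.Prime 2) := ⟨Nat.prime_two⟩
  haveI : Fact (Nat.Prime 7) := ⟨by norm_num⟩
  obtain ⟨W, hW, hW4⟩ := exists_inv_four_168 hq hi
  obtain ⟨V, hV, hV7⟩ := exists_inv_seven_168 hq hi
  have h2 : IsPGroup 2 K := isPGroup_of_quotient h hK hW (p := 2)
    (IsPGroup.of_card (n := 2) (by rw [hW4]; rfl))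
    (fun e => by rw [e, Subgroup.card_bot] at hW4; omega)
  have h7 : IsPGroup 7 K := isPGroup_of_quotient h hK hV (p := 7)
    (IsPGroup.of_card (n := 1) (by rw [hV7]; rfl))
    (fun e => by rw [e, Subgroup.card_bot] at hV7; omega)
  exact disjoint_self.1 (IsPGroup.disjoint_of_ne 2 7 (by norm_num) K K h2 h7)

/-- The non-simple case. -/
theorem conc_of_not_simple (h : Hyp x) (L : Subgroup G) [L.Normal] (hL0 : L ≠ ⊥) (hL1 : L ≠ ⊤)
    (ih : ∀ (H : Type u) [Group H] [Finite H] (y : H), Nat.card H < Nat.card G → Hyp y → Conc H) :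
    Conc G := by
  classical
  haveI : Fact (Nat.Prime 3) := ⟨Nat.prime_three⟩
  by_cases h3 : 3 ∣ Nat.card L
  · have hxL : x ∈ L := CfsgLib.Block.SelfCentralPrime.mem_of_dvd_card h.ord h.cent L h3
    -- every element is congruent to `1` or to an inverting element modulo `L`
    have hcases : ∀ g : G, g ∈ L ∨ ∃ t, IsInverter x t ∧ t⁻¹ * g ∈ L := by
      intro g
      obtain ⟨n, hn, l, hl, rfl⟩ := CfsgLib.Block.SelfCentralPrime.exists_mul_of_mem h.ord h.cent L hxL g
      rcases h.conj_cases ((Subgroup.mem_normalizer_iff.1 hn x).1 (Subgroup.mem_zpowers x)) with e | e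
      · exact Or.inl (mul_mem (Subgroup.zpowers_le.2 hxL e) hl)
      · exact Or.inr ⟨n, h.inverter_of_conj e, by rwa [inv_mul_cancel_left]⟩
    obtain ⟨t, ht, htL⟩ : ∃ t, IsInverter x t ∧ t ∉ L := by
      by_contra hno
      push Not at hno
      refine hL1 (eq_top_iff.2 fun g _ => ?_)
      rcases hcases g with hg | ⟨s, hs, hsg⟩
      · exact hg
      · simpa using mul_mem (hno s hs) hsg
    have hi2 : L.index = 2 := by
      rw [Subgroup.index_eq_two_iff]
      refine ⟨t, fun b => ?_⟩
      rcases hcases b with hb | ⟨s, hs, hsb⟩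
      · exact Or.inr ⟨hb, fun hbt => htL (by simpa using mul_mem (inv_mem hb) hbt)⟩
      · have hst : t * s ∈ L := Subgroup.zpowers_le.2 hxL (ht.mul_mem_zpowers h hs.2)
        have hb' : t * b ∈ L := by
          have e : t * b = t * s * (s⁻¹ * b) := by group
          rw [e]; exact mul_mem hst hsb
        refine Or.inl ⟨?_, fun hb => htL (by simpa using mul_mem hb' (inv_mem hb))⟩
        have := (‹L.Normal›).conj_mem _ hb' t⁻¹
        rwa [inv_mul_cancel_left, inv_inv] at this
    rcases (h.subtype hxL).inverter_or_complement with ⟨s, hs⟩ | ⟨N, hN, hN3, hNi⟩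
    · exfalso
      have hs' : IsInverter x (s : G) := hs.map L.subtype
      have := Subgroup.zpowers_le.2 hxL (ht.mul_mem_zpowers h hs'.2)
      exact htL (by simpa using mul_mem this (inv_mem s.2))
    have hmem : ∀ l : L, orderOf l ∣ Nat.card N → l ∈ N := by
      intro l hl
      rw [← QuotientGroup.eq_one_iff, ← orderOf_eq_one_iff]
      refine Nat.eq_one_of_dvd_coprimes ((Nat.prime_three.coprime_iff_not_dvd).2 hN3) ?_
        ((orderOf_map_dvd (QuotientGroup.mk' N) l).trans hl)
      exact (_root_.orderOf_dvd_natCard _).trans (dvd_of_eq hNi)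
    have hNn : (N.map L.subtype).Normal := by
      refine ⟨?_⟩
      rintro _ ⟨l, hl, rfl⟩ g
      refine ⟨⟨g * (l : G) * g⁻¹, (‹L.Normal›).conj_mem _ l.2 g⟩, hmem _ ?_, rfl⟩
      rw [Subgroup.orderOf_mk, ← MulAut.conj_apply, MulEquiv.orderOf_eq, Subgroup.orderOf_coe,
        ← Subgroup.orderOf_mk l hl]
      exact _root_.orderOf_dvd_natCard _
    have hNc : Nat.card (N.map L.subtype) = Nat.card N :=
      Subgroup.card_map_of_injective L.subtype_injective
    have hinv : Inv x (N.map L.subtype) := by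
      refine ⟨?_, by rw [hNc]; exact hN3⟩
      rw [Subgroup.normalizer_eq_top_iff.2 hNn]
      trivial
    refine Or.inl ⟨_, hNn, hinv.isNilpotent h, hinv.2, Or.inr ?_⟩
    have h1 := (N.map L.subtype).card_mul_index
    rw [← L.card_mul_index, ← N.card_mul_index, hNc, hNi, hi2, mul_assoc] at h1
    exact Nat.eq_of_mul_eq_mul_left Nat.card_pos h1
  -- the quotient
  have hlt : Nat.card (G ⧸ L) < Nat.card G := by
    rw [L.card_eq_card_quotient_mul_card_subgroup]
    exact lt_mul_of_one_lt_right Nat.card_pos (by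
      by_contra hle
      exact hL0 (Subgroup.eq_bot_of_card_le _ (not_lt.1 hle)))
  have hq := h.quotient L h3
  have hker3 : ∀ (M : Subgroup (G ⧸ L)), ¬ 3 ∣ Nat.card M →
      ¬ 3 ∣ Nat.card (M.comap (QuotientGroup.mk' L)) ∧
        (M.comap (QuotientGroup.mk' L)).index = M.index := by
    intro M hM
    have hi := Subgroup.index_comap_of_surjective M (QuotientGroup.mk'_surjective L)
    refine ⟨fun hd => ?_, hi⟩
    have h1 := (M.comap (QuotientGroup.mk' L)).card_mul_index
    rw [hi, ← L.card_mul_index, Subgroup.index_eq_card L, ← M.card_mul_index, ← mul_assoc] at h1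
    rw [Nat.eq_of_mul_eq_mul_right (Nat.pos_of_ne_zero Subgroup.index_ne_zero_of_finite) h1] at hd
    exact (Nat.prime_three.dvd_mul.1 hd).elim h3 hM
  rcases ih (G ⧸ L) _ hlt hq with ⟨N, hN, -, hN3, hNi⟩ | ⟨E, hE, hE2, hEs, hEi⟩ | ⟨hs, hc⟩
  · obtain ⟨hc3, hci⟩ := hker3 N hN3
    have hn : (N.comap (QuotientGroup.mk' L)).Normal := hN.comap _
    have hinv : Inv x (N.comap (QuotientGroup.mk' L)) := by
      refine ⟨?_, hc3⟩
      rw [Subgroup.normalizer_eq_top_iff.2 hn]
      trivial
    exact Or.inl ⟨_, hn, hinv.isNilpotent h, hc3, hci ▸ hNi⟩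
  · have hE3 : ¬ 3 ∣ Nat.card E := by
      intro hd
      obtain ⟨e, he⟩ := exists_prime_orderOf_dvd_card' 3 hd
      have h2 : orderOf e ∣ 2 := orderOf_dvd_of_pow_eq_one (Subtype.ext (by
        rw [SubmonoidClass.coe_pow, sq]; exact hE2 _ e.2))
      rw [he] at h2
      norm_num at h2
    obtain ⟨hc3, hci⟩ := hker3 E hE3
    set f := (QuotientGroup.mk' E).comp (QuotientGroup.mk' L) with hf
    have hfs : Function.Surjective f :=
      (QuotientGroup.mk'_surjective E).comp (QuotientGroup.mk'_surjective L)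
    have hker : f.ker = E.comap (QuotientGroup.mk' L) := by
      rw [hf, ← MonoidHom.comap_ker, QuotientGroup.ker_mk']
    have e := QuotientGroup.quotientKerEquivOfSurjective f hfs
    haveI : Nontrivial ((G ⧸ L) ⧸ E) := hEs.toNontrivial
    haveI : IsSimpleGroup (G ⧸ f.ker) := MulEquiv.isSimpleGroup e
    have hk3 : ¬ 3 ∣ Nat.card f.ker := by rw [hker]; exact hc3
    have hki : f.ker.index = 60 := by rw [hker, hci, hEi]
    exact Or.inr (Or.inl ⟨f.ker, inferInstance, elementary_of_quotient_sixty h hk3 hki,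
      inferInstance, hki⟩)
  · exact absurd (bot_of_quotient_168 h h3 hc) hL0

/-- The local structure at a nontrivial normal subgroup of order prime to three. -/
theorem cover (h : Hyp x) (hC : Conc G) (D : Subgroup G) [D.Normal] (hD3 : ¬ 3 ∣ Nat.card D)
    (hD0 : D ≠ ⊥) :
    (∃ K : Subgroup G, K.Normal ∧ ¬ 3 ∣ Nat.card K ∧ (K.index = 3 ∨ K.index = 6) ∧
      ∀ S, Inv x S → S ≤ K) ∨
    ∃ c : ℕ, (∃ t, IsInverter x t) ∧
      (∀ S, Inv x S → ∃ W, Inv x W ∧ IsPGroup 2 W ∧ Nat.card W = c ∧ S ≤ W) ∧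
      (∀ W, Inv x W → Nat.card W = c → ∀ t, IsInverter x t → t ∉ Subgroup.normalizer (W : Set G)) := by
  classical
  rcases hC with ⟨K, hK, -, hK3, hKi⟩ | ⟨E, hE, hE2, hEs, hEi⟩ | ⟨hs, hc⟩
  · refine Or.inl ⟨K, hK, hK3, hKi, fun S hS s hs => ?_⟩
    have hi := hS.image (QuotientGroup.mk' K)
    have hmod := hi.card_mod (h.quotient K hK3)
    have hdvd : Nat.card (S.map (QuotientGroup.mk' K)) ∣ K.index := Subgroup.card_subgroup_dvd_card _
    have h1 : Nat.card (S.map (QuotientGroup.mk' K)) = 1 := by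
      have h2 : Nat.card (S.map (QuotientGroup.mk' K)) ∣ 2 := by
        refine Nat.Coprime.dvd_of_dvd_mul_right (n := 3)
          ((Nat.prime_three.coprime_iff_not_dvd).2 hi.2).symm ?_
        rcases hKi with e | e <;> rw [e] at hdvd
        · exact hdvd.trans (by norm_num)
        · exact hdvd
      rcases (Nat.dvd_prime Nat.prime_two).1 h2 with e | e
      · exact e
      · omega
    rw [← QuotientGroup.eq_one_iff, ← Subgroup.mem_bot, ← Subgroup.card_eq_one.1 h1]
    exact Subgroup.mem_map_of_mem _ hs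
  · refine Or.inr ⟨4 * Nat.card E, ?_⟩
    haveI : Fact (Nat.Prime 2) := ⟨Nat.prime_two⟩
    set f := QuotientGroup.mk' E with hfdef
    have hfs : Function.Surjective f := QuotientGroup.mk'_surjective E
    have hker : f.ker = E := QuotientGroup.ker_mk' E
    have hE2p : IsPGroup 2 E := fun e => ⟨1, Subtype.ext (by
      rw [SubmonoidClass.coe_pow, pow_one, sq]; exact hE2 _ e.2)⟩
    have hE3 : ¬ 3 ∣ Nat.card E := by
      obtain ⟨k, hk⟩ := IsPGroup.iff_card.1 hE2p
      rw [hk]
      exact fun hd => by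
        have := Nat.prime_three.dvd_of_dvd_pow hd
        omega
    have hq : Hyp (f x) := h.quotient E hE3
    have hQc : Nat.card (G ⧸ E) = 60 := hEi
    have hQn := simple_sixty_not_comm hQc
    refine ⟨?_, fun S hS => ?_, fun W hW hWc t ht htN => ?_⟩
    · rcases h.inverter_or_complement with ht | ⟨N, hN, hN3, hNi⟩
      · exact ht
      exfalso
      rcases IsSimpleGroup.eq_bot_or_eq_top_of_normal _ (Subgroup.Normal.map hN f hfs) with e | e
      · rw [Subgroup.map_eq_bot_iff, hker] at e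
        have := Subgroup.index_dvd_of_le e
        rw [hEi, hNi] at this
        norm_num at this
      · have := Subgroup.card_map_dvd N f
        rw [e, Subgroup.card_top, hQc] at this
        exact hN3 (Nat.dvd_trans (by norm_num) this)
    · obtain ⟨W', hW', hW'4, hSW⟩ : ∃ W', Inv (f x) W' ∧ Nat.card W' = 4 ∧ S.map f ≤ W' := by
        rcases card_le_of_inv_sixty hq hQc hQn (hS.image f) with e | e
        · obtain ⟨W', hW', hW'4⟩ := exists_inv_four_sixty hq hQc hQn
          exact ⟨W', hW', hW'4, by rw [Subgroup.card_eq_one.1 e]; exact bot_le⟩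
        · exact ⟨_, hS.image f, e, le_rfl⟩
      obtain ⟨hWinv, hWc⟩ := Inv.comap (x := x) hfs (by rw [hker]; exact hE3) hW'
      rw [hker, hW'4, mul_comm] at hWc
      refine ⟨_, hWinv, ?_, hWc, Subgroup.map_le_iff_le_comap.1 hSW⟩
      obtain ⟨k, hk⟩ := IsPGroup.iff_card.1 hE2p
      exact IsPGroup.of_card (n := k + 2) (by rw [hWc, hk]; ring)
    · have hi : Inv (f x) (W.map f) := hW.image f
      rcases card_le_of_inv_sixty hq hQc hQn hi with e | e
      · have hWE : W ≤ E := by
          rw [← hker, ← Subgroup.map_eq_bot_iff]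
          exact Subgroup.card_eq_one.1 e
        have := Subgroup.card_le_of_le hWE
        have := Nat.card_pos (α := E)
        omega
      · exact not_inverter_normalizes_sixty hq hQc hQn hi e (ht.map f)
          (Subgroup.le_normalizer_map f (Subgroup.mem_map_of_mem f htN))
  · exfalso
    haveI := hs
    rcases IsSimpleGroup.eq_bot_or_eq_top_of_normal D inferInstance with e | e
    · exact hD0 e
    · exact hD3 (by rw [e, Subgroup.card_top]; exact h.three_dvd)

end CfsgLib.Recog.SelfCentThree
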