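import Cfsg.Agent.Lib.Recog.SelfCentThree.Local

/-!
The order of a minimal simple configuration is small.
-/

set_option autoImplicit false
set_option linter.unusedSectionVars false
set_option linter.style.haveILetI false

namespace CfsgLib.Recog.SelfCentThree

open Subgroup

universe u

variable {G : Type u} [Group G] [Finite G] [IsSimpleGroup G] {x : G}

theorem succ_mul_twelve_le (L : ℕ) (hL : 3 ≤ L) : 12 * (L + 1) ≤ 7 ^ (L - 1) := by
  induction L, hL using Nat.le_induction with
  | base => norm_num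
  | succ k hk ih =>
    rw [show k + 1 - 1 = (k - 1) + 1 by omega, pow_succ]
    omega

theorem Hyp.card_mod_eighteen (h : Hyp x) {t : G} (ht : IsInverter x t) :
    Nat.card G % 18 = 6 := by
  haveI : Fact (Nat.Prime 3) := ⟨Nat.prime_three⟩
  have := Fintype.ofFinite G
  obtain ⟨P, hP⟩ := CfsgLib.Block.SelfCentralPrime.exists_sylow_eq h.ord h.cent
  have h1 : Nat.card (Sylow 3 G) % 3 = 1 := card_sylow_modEq_one 3 G
  rw [P.card_eq_index_normalizer, show (P : Set G) = ((Subgroup.zpowers x : Subgroup G) : Set G) from congrArg SetLike.coe hP] at h1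
  have h2 := (Subgroup.normalizer ((Subgroup.zpowers x : Subgroup G) : Set G)).card_mul_index
  rw [card_normalizer_zpowers h ht, h.card_zpowers] at h2
  omega

namespace Ctx

variable (hx : Ctx x)
include hx

open scoped _root_.Classical in
/-- The order is at most 1092. -/
theorem card_le : Nat.card G ≤ 1092 := by
  have := Fintype.ofFinite G
  have h := hx.hyp
  obtain ⟨t, ht⟩ := h.exists_inverter hx.nc
  obtain ⟨φ, ψ, d, D⟩ := exists_charData h ht
  have hc := D.three_mul_sq_lt h ht hx.nc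
  have hsum := hx.lt_nine_mul
  have hmod := h.card_mod_eighteen ht
  set n := Nat.card G with hn
  set c := Nat.card (Subgroup.centralizer ({t} : Set G))
  by_contra hbig
  rcases (mems x).eq_empty_or_nonempty with he | hne
  · rw [he, Finset.sum_empty] at hsum
    omega
  obtain ⟨M₀, hM₀', hmax⟩ := (mems x).exists_max_image (fun M : Subgroup G => Nat.card M) hne
  have hM₀ := mem_mems.1 hM₀'
  obtain ⟨H, hH⟩ : ∃ H, H = Nat.card M₀ := ⟨_, rfl⟩
  have hle : ∀ M ∈ mems x, Nat.card M ≤ H := fun M hM => hH ▸ hmax M hM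
  have hH4 : 4 ≤ H := hH ▸ hM₀.four_le hx
  obtain ⟨L, hO, hLn⟩ := hx.exists_odd_classes hM₀
  rw [← hH] at hLn
  set O := (mems x).filter fun M : Subgroup G => ¬ IsPGroup 2 M with hOd
  set T := (mems x).filter fun M : Subgroup G => IsT M with hTd
  set S := (mems x).filter fun M : Subgroup G => IsSix M with hSd
  set f : Subgroup G → ℕ := fun M => Nat.card M - 1 with hf
  replace hsum : n < 9 * (1 + ∑ M ∈ mems x, f M) := hsum
  have hT : T.card ≤ 2 := hx.card_filter_isT_le
  have hcover : mems x ⊆ O ∪ T ∪ S := fun M hM => by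
    rcases hx.kind (mem_mems.1 hM) with e | e | e <;>
      simp [hOd, hTd, hSd, hM, e]
  have hsplit : ∑ M ∈ mems x, f M ≤ ∑ M ∈ O, f M + ∑ M ∈ T, f M + ∑ M ∈ S, f M := by
    refine (Finset.sum_le_sum_of_subset hcover).trans ?_
    have h1 := Finset.sum_union_inter (s₁ := O ∪ T) (s₂ := S) (f := f)
    have h2 := Finset.sum_union_inter (s₁ := O) (s₂ := T) (f := f)
    omega
  have hbound : ∀ U : Finset (Subgroup G), U ⊆ mems x → ∑ M ∈ U, f M ≤ U.card * (H - 1) := by
    intro U hU
    rw [← smul_eq_mul]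
    exact Finset.sum_le_card_nsmul _ _ _ fun M hM => Nat.sub_le_sub_right (hle M (hU hM)) 1
  have hOs : ∑ M ∈ O, f M ≤ 2 * L * (H - 1) :=
    (hbound O (Finset.filter_subset _ _)).trans (Nat.mul_le_mul_right _ hO)
  have hTs : ∑ M ∈ T, f M ≤ 2 * (H - 1) :=
    (hbound T (Finset.filter_subset _ _)).trans (Nat.mul_le_mul_right _ hT)
  by_cases ha : ∃ R ∈ S, R ≠ M₀ ∧ 64 ≤ Nat.card R
  · -- a large two-group with an inverting element in the normalizer
    obtain ⟨R, hR, hne0, h64⟩ := ha
    obtain ⟨hR, hR6⟩ := Finset.mem_filter.1 hR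
    have hn384 : 384 * H ≤ n := by
      have := hx.six_pair_le hM₀ (mem_mems.1 hR) (Ne.symm hne0) (Or.inr hR6.2)
      rw [← hH] at this
      have := Nat.mul_le_mul_left (6 * H) h64
      omega
    obtain ⟨s, hs⟩ : ∃ s, s = Nat.sqrt H := ⟨_, rfl⟩
    have hs8 : 8 ≤ s := hs ▸ Nat.le_sqrt.2 (le_trans (by omega) (hle R hR))
    have hsH : s * s ≤ H := hs ▸ Nat.sqrt_le H
    have hS : ∑ M ∈ S, f M ≤ (s + 1) * (c - 1) := by
      refine le_trans ?_ (Nat.mul_le_mul_left (s + 1) (hx.sum_fixed_le ht))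
      rw [Finset.mul_sum]
      refine Finset.sum_le_sum fun M hM => ?_
      obtain ⟨hM, hM6⟩ := Finset.mem_filter.1 hM
      obtain ⟨j, -, hC, hcard⟩ := hx.exists_sqrt (mem_mems.1 hM) hM6 ht
      rw [hC]
      have hjs : 2 ^ j ≤ s := hs ▸ Nat.le_sqrt.2 (by rw [← sq, ← hcard]; exact hle M hM)
      show Nat.card M - 1 ≤ _
      rw [hcard]
      calc (2 ^ j) ^ 2 - 1 = (2 ^ j + 1) * (2 ^ j - 1) := by
            simpa using Nat.sq_sub_sq (2 ^ j) 1
        _ ≤ (s + 1) * (2 ^ j - 1) := Nat.mul_le_mul_right _ (by omega)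
    obtain ⟨A, hA⟩ : ∃ A, A = 9 * (s + 1) * c := ⟨_, rfl⟩
    have hAn : 2 * A < n := by
      by_contra hcon
      push Not at hcon
      have h1 : n * n ≤ 2 * A * (2 * A) := Nat.mul_le_mul hcon hcon
      have h2 : 64 * ((s + 1) * (s + 1)) ≤ 81 * H := by nlinarith
      have h3 : 3 * (64 * (n * n)) ≤ 324 * (81 * H) * (3 * c ^ 2) := by
        calc 3 * (64 * (n * n)) ≤ 3 * (64 * (2 * A * (2 * A))) := by omega
          _ = 324 * (64 * ((s + 1) * (s + 1))) * (3 * c ^ 2) := by rw [hA]; ring
          _ ≤ _ := Nat.mul_le_mul_right _ (Nat.mul_le_mul_left _ h2)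
      have h4 : 324 * (81 * H) * (3 * c ^ 2) ≤ 324 * (81 * H) * (2 * n) :=
        Nat.mul_le_mul_left _ hc.le
      have h5 : n * (192 * n) ≤ n * (52488 * H) := by
        calc n * (192 * n) = 3 * (64 * (n * n)) := by ring
          _ ≤ _ := h3.trans h4
          _ = n * (52488 * H) := by ring
      have h6 := Nat.le_of_mul_le_mul_left h5 (by omega)
      omega
    have hcs : (s + 1) * (c - 1) ≤ (s + 1) * c := Nat.mul_le_mul_left _ (Nat.sub_le _ _)
    have hA' : 9 * ((s + 1) * c) = A := by rw [hA, mul_assoc]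
    have hlt : n < 18 * ((2 * L + 2) * H) := by
      have e1 : (2 * L + 2) * H = (2 * L + 2) * (H - 1) + (2 * L + 2) := by
        obtain ⟨k, rfl⟩ : ∃ k, H = k + 1 := ⟨H - 1, by omega⟩
        rw [Nat.add_sub_cancel]; ring
      have e2 : (2 * L + 2) * (H - 1) = 2 * L * (H - 1) + 2 * (H - 1) := by ring
      omega
    rcases Nat.lt_or_ge L 10 with hL | hL
    · have : (2 * L + 2) * H ≤ 20 * H := Nat.mul_le_mul_right _ (by omega)
      omega
    · have h7 := succ_mul_twelve_le L (by omega)
      have : 3 * H * (12 * (L + 1)) ≤ 3 * H * 7 ^ (L - 1) := Nat.mul_le_mul_left _ h7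
      have e : 18 * ((2 * L + 2) * H) = 3 * H * (12 * (L + 1)) := by ring
      omega
  push Not at ha
  have hval : ∀ M ∈ S, Nat.card M = 4 ∨ Nat.card M = 16 ∨ 64 ≤ Nat.card M := by
    intro M hM
    obtain ⟨hM, hM6⟩ := Finset.mem_filter.1 hM
    obtain ⟨j, hj, -, hcard⟩ := hx.exists_sqrt (mem_mems.1 hM) hM6 ht
    rcases (by omega : j = 1 ∨ j = 2 ∨ 3 ≤ j) with rfl | rfl | hj3
    · exact Or.inl (by rw [hcard]; norm_num)
    · exact Or.inr (Or.inl (by rw [hcard]; norm_num))
    · refine Or.inr (Or.inr ?_)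
      rw [hcard, ← pow_mul]
      calc 64 = 2 ^ 6 := by norm_num
        _ ≤ 2 ^ (j * 2) := Nat.pow_le_pow_right (by norm_num) (by omega)
  have hfours : ((mems x).filter fun M : Subgroup G => IsSix M ∧ Nat.card M = 4).card ≤ 3 :=
    hx.card_fours_le
  by_cases hb : ∃ R ∈ S, R ≠ M₀ ∧ Nat.card R = 16
  · -- a member of order sixteen
    obtain ⟨R, hR, hne0, h16⟩ := hb
    obtain ⟨hR, hR6⟩ := Finset.mem_filter.1 hR
    obtain ⟨hnoT, hS16, huniq⟩ := hx.sixteen_consequences (mem_mems.1 hR) hR6 h16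
    have hn96 : 96 * H ≤ n := by
      have := hx.six_pair_le hM₀ (mem_mems.1 hR) (Ne.symm hne0) (Or.inr hR6.2)
      rw [← hH, h16] at this
      omega
    have hH16 : 16 ≤ H := h16 ▸ hle R hR
    have hT0 : ∑ M ∈ T, f M = 0 := by
      refine Finset.sum_eq_zero fun M hM => ?_
      obtain ⟨hM, hMT⟩ := Finset.mem_filter.1 hM
      exact absurd hMT (hnoT M (mem_mems.1 hM))
    have hS : ∑ M ∈ S, f M ≤ 24 := by
      have hsub : S ⊆ insert R ((mems x).filter fun M : Subgroup G => IsSix M ∧ Nat.card M = 4) := by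
        intro M hM
        obtain ⟨hM', hM6⟩ := Finset.mem_filter.1 hM
        rcases hval M hM with e | e | e
        · exact Finset.mem_insert_of_mem (Finset.mem_filter.2 ⟨hM', hM6, e⟩)
        · rw [huniq M (mem_mems.1 hM') hM6 e]; exact Finset.mem_insert_self _ _
        · have := hS16 M (mem_mems.1 hM') hM6
          omega
      refine (Finset.sum_le_sum_of_subset hsub).trans ?_
      rw [Finset.sum_insert fun hmem => by
        have := (Finset.mem_filter.1 hmem).2.2
        omega]
      have h1 : ∑ M ∈ (mems x).filter (fun M : Subgroup G => IsSix M ∧ Nat.card M = 4), f M ≤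
          ((mems x).filter fun M : Subgroup G => IsSix M ∧ Nat.card M = 4).card * 3 := by
        rw [← smul_eq_mul]
        exact Finset.sum_le_card_nsmul _ _ _ fun M hM => by
          show Nat.card M - 1 ≤ 3
          rw [(Finset.mem_filter.1 hM).2.2]
      have h2 : f R = 15 := by show Nat.card R - 1 = 15; rw [h16]
      omega
    have e1 : 2 * L * (H - 1) ≤ 2 * L * H := Nat.mul_le_mul_left _ (Nat.sub_le _ _)
    rcases Nat.lt_or_ge L 3 with hL | hL
    · interval_cases L <;> omega
    · have h7 := succ_mul_twelve_le L hL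
      have h8 : 3 * H * (12 * (L + 1)) ≤ 3 * H * 7 ^ (L - 1) := Nat.mul_le_mul_left _ h7
      have e2 : 3 * H * (12 * (L + 1)) = 36 * (L * H) + 36 * H := by ring
      have e3 : 2 * L * H = 2 * (L * H) := by ring
      omega
  push Not at hb
  -- all the others of this kind have order four
  have hS4 : ∀ M ∈ S.erase M₀, IsSix M ∧ Nat.card M = 4 := by
    intro M hM
    obtain ⟨hne0, hM⟩ := Finset.mem_erase.1 hM
    refine ⟨(Finset.mem_filter.1 hM).2, ?_⟩
    rcases hval M hM with e | e | e
    · exact e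
    · exact absurd e (hb M hM hne0)
    · have := ha M hM hne0; omega
  have hS3 : (S.erase M₀).card ≤ 3 := by
    refine le_trans (Finset.card_le_card fun M hM => ?_) hfours
    exact Finset.mem_filter.2 ⟨(Finset.mem_filter.1 (Finset.mem_of_mem_erase hM)).1, hS4 M hM⟩
  have hexcl : (S.erase M₀).Nonempty → T = ∅ := by
    rintro ⟨V, hV⟩
    refine Finset.eq_empty_of_forall_notMem fun M hM => ?_
    obtain ⟨hM, hMT⟩ := Finset.mem_filter.1 hM
    exact hx.not_isT_and_four (mem_mems.1 hM) hMT
      (mem_mems.1 (Finset.mem_filter.1 (Finset.mem_of_mem_erase hV)).1) (hS4 V hV).1 (hS4 V hV).2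
  have hTS : T.card + (S.erase M₀).card ≤ 3 := by
    rcases (S.erase M₀).eq_empty_or_nonempty with e | e
    · rw [e, Finset.card_empty]; omega
    · rw [hexcl e, Finset.card_empty]; omega
  have hScard : S.card ≤ (S.erase M₀).card + 1 :=
    Nat.le_add_of_sub_le Finset.pred_card_le_card_erase
  have hL2 : L ≤ 2 := by
    by_contra hL
    have hS := hbound S (Finset.filter_subset _ _)
    have hS' := hS.trans (Nat.mul_le_mul_right (H - 1) (show S.card ≤ 4 by omega))
    have h7 := succ_mul_twelve_le L (by omega)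
    have h8 : 3 * H * (12 * (L + 1)) ≤ 3 * H * 7 ^ (L - 1) := Nat.mul_le_mul_left _ h7
    have e2 : 3 * H * (12 * (L + 1)) = 36 * (L * H) + 36 * H := by ring
    have e1 : 2 * L * (H - 1) ≤ 2 * (L * H) := by
      rw [← mul_assoc]; exact Nat.mul_le_mul_left _ (Nat.sub_le _ _)
    have e3 : 3 * H ≤ L * H := Nat.mul_le_mul_right _ (by omega)
    omega
  have hO4 : O.card ≤ 4 := by omega
  -- everything else than the largest member
  have hsplit₀ : ∑ M ∈ mems x, f M = f M₀ + ∑ M ∈ (mems x).erase M₀, f M :=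
    (Finset.add_sum_erase _ _ hM₀').symm
  have hothers : ((mems x).erase M₀).card ≤ 7 := by
    refine le_trans (Finset.card_le_card (t := O ∪ T ∪ S.erase M₀) fun M hM => ?_) ?_
    · obtain ⟨hne0, hM⟩ := Finset.mem_erase.1 hM
      have := hcover hM
      simp only [Finset.mem_union, Finset.mem_erase] at this ⊢
      exact this.imp id fun e => ⟨hne0, e⟩
    · have h1 := Finset.card_union_le (O ∪ T) (S.erase M₀)
      have h2 := Finset.card_union_le O T
      omega
  have hf₀ : f M₀ = H - 1 := by rw [hH]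
  obtain ⟨i, hi⟩ : ∃ i, i = (Subgroup.normalizer (M₀ : Set G)).index := ⟨_, rfl⟩
  have hni := (Subgroup.normalizer (M₀ : Set G)).card_mul_index
  rw [← hi] at hni
  have hi5 : 5 ≤ i := hi ▸ five_le_index hx.nc (by omega) (hM₀.inv.normalizer_ne_top h hM₀.ne)
  rcases hx.three_or_six hM₀ with h3 | h6
  swap
  · -- the largest member has an inverting element in the normalizer
    rw [h6, ← hH] at hni
    have hoth : ∑ M ∈ (mems x).erase M₀, f M ≤ 7 * (i - 1) := by
      refine le_trans ?_ (Nat.mul_le_mul_right (i - 1) hothers)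
      rw [← smul_eq_mul]
      refine Finset.sum_le_card_nsmul _ _ _ fun M hM => Nat.sub_le_sub_right ?_ 1
      obtain ⟨hne0, hM⟩ := Finset.mem_erase.1 hM
      have h1 := hx.six_pair_le hM₀ (mem_mems.1 hM) (Ne.symm hne0) (Or.inl h6)
      rw [← hH, ← hni] at h1
      exact Nat.le_of_mul_le_mul_left h1 (by omega)
    have hall := (hbound _ (Finset.erase_subset _ _)).trans (Nat.mul_le_mul_right (H - 1) hothers)
    have hi11 : i ≤ 11 := by
      by_contra hlt
      have := Nat.mul_le_mul_left (6 * H) (not_le.1 hlt : 12 ≤ i)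
      omega
    interval_cases i <;> omega
  rw [h3, ← hH] at hni
  have hS₀ : M₀ ∉ S := fun hm => by
    have := (Finset.mem_filter.1 hm).2.2
    omega
  rw [Finset.erase_eq_of_notMem hS₀] at hS4 hexcl hS3
  by_cases hT₀ : IsT M₀
  · -- the largest member is a Sylow subgroup
    have hS0 : S = ∅ := by
      by_contra hne0
      have := hexcl (Finset.nonempty_iff_ne_empty.2 hne0)
      exact Finset.notMem_empty M₀ (this ▸ Finset.mem_filter.2 ⟨hM₀', hT₀⟩)
    rw [hS0, Finset.sum_empty] at hsplit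
    have hOi : ∑ M ∈ O, f M ≤ 4 * (i - 1) := by
      refine le_trans ?_ (Nat.mul_le_mul_right (i - 1) hO4)
      rw [← smul_eq_mul]
      refine Finset.sum_le_card_nsmul _ _ _ fun M hM => Nat.sub_le_sub_right ?_ 1
      obtain ⟨hM, hM2⟩ := Finset.mem_filter.1 hM
      have h1 := hx.pair_le hM₀ (mem_mems.1 hM) (fun e => hM2 (e ▸ hT₀.1)) fun e => hM2 e.2.1
      rw [← hH, ← hni] at h1
      exact Nat.le_of_mul_le_mul_left h1 (by omega)
    have hOH := (hbound O (Finset.filter_subset _ _)).trans (Nat.mul_le_mul_right (H - 1) hO4)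
    have hi17 : i ≤ 17 := by
      by_contra hlt
      have := Nat.mul_le_mul_left (3 * H) (not_le.1 hlt : 18 ≤ i)
      omega
    have hH1 : H % 3 = 1 := hH ▸ hM₀.inv.card_mod h
    rcases eq_or_ne i 5 with rfl | hi'
    · have h2 := CfsgLib.Transfer.two_mul_card_dvd_factorial hx.nc (hM₀.inv.normalizer_ne_top h hM₀.ne)
      rw [← hi] at h2
      have := Nat.le_of_dvd (Nat.factorial_pos _) h2
      simp only [Nat.factorial] at this
      omega
    interval_cases i <;> omega
  · -- the largest member is paired with another of the same order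
    have h2 : ¬ IsPGroup 2 M₀ := fun e => hT₀ ⟨e, h3⟩
    have hne0 : M₀ ≠ cnj t M₀ := (hx.cnj_inverter_ne hM₀ h3 ht).symm
    have hHi : H ≤ i := by
      have h1 := hx.pair_le hM₀ (hx.mem_cnj_inverter hM₀ ht) hne0 fun e => hT₀ e.1
      rw [card_cnj, ← hH, ← hni] at h1
      exact Nat.le_of_mul_le_mul_left h1 (by omega)
    have hH7 : 7 ≤ H := le_trans (hx.seven_le_oddPart hM₀ h2)
      ((Nat.le_of_dvd Nat.card_pos (oddPart_dvd _)).trans hH.ge)
    have hTS' : ∑ M ∈ T, f M + ∑ M ∈ S, f M ≤ 2 * H := by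
      rcases S.eq_empty_or_nonempty with e | e
      · rw [e, Finset.sum_empty]; omega
      · rw [hexcl e, Finset.sum_empty]
        have : ∑ M ∈ S, f M ≤ S.card * 3 := by
          rw [← smul_eq_mul]
          exact Finset.sum_le_card_nsmul _ _ _ fun M hM => by
            show Nat.card M - 1 ≤ 3
            rw [(hS4 M hM).2]
        omega
    have hOH := (hbound O (Finset.filter_subset _ _)).trans (Nat.mul_le_mul_right (H - 1) hO4)
    have hi17 : i ≤ 17 := by
      by_contra hlt
      have := Nat.mul_le_mul_left (3 * H) (not_le.1 hlt : 18 ≤ i)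
      omega
    interval_cases i <;> omega

end Ctx

end CfsgLib.Recog.SelfCentThree
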