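import Cfsg.Agent.Lib.Recog.SelfCentThree.Types

/-!
The small two-groups among the maximal invariant subgroups.
-/

set_option autoImplicit false
set_option linter.unusedSectionVars false
set_option linter.style.haveILetI false

namespace CfsgLib.Recog.SelfCentThree

open Subgroup

universe u

variable {G : Type u} [Group G] [Finite G] [IsSimpleGroup G] {x t : G}

theorem mem_normalizer_centralizer {M : Subgroup G} {g : G}
    (hg : g ∈ Subgroup.normalizer (M : Set G)) :
    g ∈ Subgroup.normalizer ((Subgroup.centralizer (M : Set G) : Subgroup G) : Set G) := by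
  refine mem_normalizer_of_cnj_eq (Subgroup.eq_of_le_of_card_ge ?_ (card_cnj _ _).ge)
  intro a ha
  rw [mem_cnj, Subgroup.mem_centralizer_iff] at ha
  rw [Subgroup.mem_centralizer_iff]
  intro m hm
  have h1 : g⁻¹ * m * g ∈ M := by
    have := (Subgroup.mem_normalizer_iff.1 (inv_mem hg) m).1 hm
    rwa [inv_inv] at this
  have h2 := ha _ h1
  calc m * a = g * ((g⁻¹ * m * g) * (g⁻¹ * a * g)) * g⁻¹ := by group
    _ = g * ((g⁻¹ * a * g) * (g⁻¹ * m * g)) * g⁻¹ := by rw [h2]
    _ = a * m := by group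

namespace Ctx

variable (hx : Ctx x)
include hx

variable {V R : Subgroup G}

/-- The part of a member that commutes with all of it is invariant and large. -/
theorem four_le_center (hM : Mem x R) :
    Inv x (R ⊓ Subgroup.centralizer (R : Set G)) ∧
      4 ≤ Nat.card ↥(R ⊓ Subgroup.centralizer (R : Set G)) := by
  set Z := R ⊓ Subgroup.centralizer (R : Set G)
  have hZ : Inv x Z := hM.inv.inf (mem_normalizer_centralizer hM.inv.1)
  refine ⟨hZ, ?_⟩
  have := hZ.card_mod hx.hyp
  have h1 : Z ≠ ⊥ := by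
    haveI := hM.inv.isNilpotent hx.hyp
    haveI : Nontrivial R := (Subgroup.nontrivial_iff_ne_bot R).2 hM.ne
    intro e
    refine Group.IsNilpotent.center_ne_bot (G := R) (eq_bot_iff.2 fun z hz => ?_)
    have : (z : G) ∈ Z := Subgroup.mem_inf.2 ⟨z.2, Subgroup.mem_centralizer_iff.2 fun m hm =>
      congrArg Subtype.val (Subgroup.mem_center_iff.1 hz ⟨m, hm⟩)⟩
    rw [e, Subgroup.mem_bot] at this
    exact Subgroup.mem_bot.2 (Subtype.ext this)
  have := (Subgroup.one_lt_card_iff_ne_bot Z).2 h1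
  omega

/-- The centralizer of a fixed involution and its conjugate by `x` in a member of order four. -/
theorem four_centralizer (hV : Mem x V) (h4 : Nat.card V = 4) {z : G} (hz : z ∈ V) (hz1 : z ≠ 1) :
    Subgroup.centralizer ({z, x * z * x⁻¹} : Set G) = V := by
  haveI : Fact (Nat.Prime 2) := ⟨Nat.prime_two⟩
  haveI : IsMulCommutative V := IsPGroup.isMulCommutative_of_card_eq_prime_sq (p := 2) (by rw [h4]; norm_num)
  set C := Subgroup.centralizer ({z, x * z * x⁻¹} : Set G)
  have hu : x * z * x⁻¹ ∈ V := (Subgroup.mem_normalizer_iff.1 hV.inv.1 z).1 hz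
  have hVC : V ≤ C := fun a ha => Subgroup.mem_centralizer_iff.2 fun b hb => by
    simp only [Set.mem_insert_iff, Set.mem_singleton_iff] at hb
    have hbV : b ∈ V := by rcases hb with rfl | rfl <;> assumption
    exact congrArg Subtype.val (mul_comm' (⟨b, hbV⟩ : V) ⟨a, ha⟩)
  obtain ⟨-, habc, hcc⟩ := hx.hyp.rel (hV.inv.mul_cube hx.hyp hz).1 (hV.inv.mul_cube hx.hyp hz).2
  have hxC : x ∈ Subgroup.normalizer (C : Set G) := by
    refine mem_normalizer_of_cnj_eq (Subgroup.eq_of_le_of_card_ge ?_ (card_cnj _ _).ge)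
    intro a ha
    rw [mem_cnj, Subgroup.mem_centralizer_iff] at ha
    have h1 : Commute (x * z * x⁻¹) a := by
      have h2 := ha z (by simp)
      show x * z * x⁻¹ * a = a * (x * z * x⁻¹)
      calc x * z * x⁻¹ * a = x * (z * (x⁻¹ * a * x)) * x⁻¹ := by group
        _ = x * (x⁻¹ * a * x * z) * x⁻¹ := by rw [h2]
        _ = a * (x * z * x⁻¹) := by group
    have h3 : Commute (x⁻¹ * z * x) a := by
      have h2 := ha (x * z * x⁻¹) (by simp)
      show x⁻¹ * z * x * a = a * (x⁻¹ * z * x)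
      rw [← hcc]
      calc x * (x * z * x⁻¹) * x⁻¹ * a = x * ((x * z * x⁻¹) * (x⁻¹ * a * x)) * x⁻¹ := by group
        _ = x * (x⁻¹ * a * x * (x * z * x⁻¹)) * x⁻¹ := by rw [h2]
        _ = a * (x * (x * z * x⁻¹) * x⁻¹) := by group
    have h4 : Commute z a := by
      have e : z = ((x * z * x⁻¹) * (x⁻¹ * z * x))⁻¹ :=
        eq_inv_of_mul_eq_one_left (by rw [← mul_assoc]; exact habc)
      rw [e]
      exact (h1.mul_left h3).inv_left
    refine Subgroup.mem_centralizer_iff.2 fun b hb => ?_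
    simp only [Set.mem_insert_iff, Set.mem_singleton_iff] at hb
    rcases hb with rfl | rfl
    · exact h4.eq
    · exact h1.eq
  refine hV.eq_of_le C ⟨hxC, fun hd => ?_⟩ hVC
  haveI : Fact (Nat.Prime 3) := ⟨Nat.prime_three⟩
  have hH := hx.hyp.subtype hxC
  have hxA : (⟨x, hxC⟩ : Subgroup.normalizer (C : Set G)) ∈ C.subgroupOf _ := by
    refine CfsgLib.Block.SelfCentralPrime.mem_of_dvd_card hH.ord hH.cent _ ?_
    rwa [Nat.card_congr (Subgroup.subgroupOfEquivOfLe Subgroup.le_normalizer).toEquiv]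
  have := Subgroup.mem_centralizer_iff.1 (Subgroup.mem_subgroupOf.1 hxA) z (by simp)
  exact hz1 (hx.hyp.eq_one_of_commute hV.inv.2 hz this)

open scoped _root_.Classical in
/-- There are at most three members of order four with an inverting element in the normalizer. -/
theorem card_fours_le :
    ((mems x).filter fun M : Subgroup G => IsSix M ∧ Nat.card M = 4).card ≤ 3 := by
  have := Fintype.ofFinite G
  have h := hx.hyp
  obtain ⟨t, ht⟩ := h.exists_inverter hx.nc
  obtain ⟨φ, ψ, d, D⟩ := exists_charData h ht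
  set K := Subgroup.centralizer ({t} : Set G)
  set F := (mems x).filter fun M : Subgroup G => IsSix M ∧ Nat.card M = 4
  have hF : ∀ V ∈ F, ∃ g : G, ∃ w : K, g * t * g⁻¹ ∈ V ∧ g * t * g⁻¹ ≠ 1 ∧
      g * (w : G) * g⁻¹ = x * (g * t * g⁻¹) * x⁻¹ := by
    intro V hV
    obtain ⟨hV, hV6, hV4⟩ := Finset.mem_filter.1 hV
    obtain ⟨j, hj, hC, he⟩ := hx.exists_sqrt (mem_mems.1 hV) hV6 ht
    have hj1 : 1 < Nat.card ↥(V ⊓ K) := hC ▸ Nat.one_lt_two_pow (by omega)
    haveI : Nontrivial ↥(V ⊓ K) := Finite.one_lt_card_iff_nontrivial.1 hj1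
    obtain ⟨⟨z, hz⟩, hz1⟩ := exists_ne (1 : ↥(V ⊓ K))
    have hz1' : z ≠ 1 := fun e => hz1 (Subtype.ext e)
    have hz2 : z * z = 1 := by
      have h2 : Nat.card ↥(V ⊓ K) = 2 := by
        rw [hC]
        rw [hV4] at he
        have : 2 ^ j = 2 := by nlinarith
        exact this
      have := pow_card_eq_one' (G := ↥(V ⊓ K)) (x := ⟨z, hz⟩)
      rw [h2, sq] at this
      exact congrArg Subtype.val this
    obtain ⟨g, hg⟩ := isConj_iff.1 (D.isConj_of_involution h ht hz2 hz1')
    refine ⟨g, ⟨g⁻¹ * (x * z * x⁻¹) * g, ?_⟩, by rw [hg]; exact (Subgroup.mem_inf.1 hz).1,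
      by rw [hg]; exact hz1', by rw [hg]; group⟩
    rw [Subgroup.mem_centralizer_singleton_iff]
    have hzV := (Subgroup.mem_inf.1 hz).1
    have hu := (Subgroup.mem_normalizer_iff.1 (mem_mems.1 hV).inv.1 z).1 hzV
    haveI : Fact (Nat.Prime 2) := ⟨Nat.prime_two⟩
    haveI : IsMulCommutative V := IsPGroup.isMulCommutative_of_card_eq_prime_sq (p := 2) (by rw [hV4]; norm_num)
    have hc : x * z * x⁻¹ * z = z * (x * z * x⁻¹) :=
      congrArg Subtype.val (mul_comm' (⟨_, hu⟩ : V) ⟨z, hzV⟩)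
    have ht' : t = g⁻¹ * z * g := by rw [← hg]; group
    rw [ht']
    calc g⁻¹ * (x * z * x⁻¹) * g * (g⁻¹ * z * g) = g⁻¹ * (x * z * x⁻¹ * z) * g := by group
      _ = g⁻¹ * (z * (x * z * x⁻¹)) * g := by rw [hc]
      _ = _ := by group
  choose g w hgV hg1 hgw using hF
  let f : F → Finset K := fun V =>
    Finset.univ.filter fun k : K => k ∈ (ConjClasses.mk (w V.1 V.2)).carrier
  have hcard : ∀ V : F, (f V).card * 4 = Nat.card K := by
    intro V
    obtain ⟨hV, hV6, hV4⟩ := Finset.mem_filter.1 V.2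
    obtain ⟨W, hW⟩ : ∃ W : K, W = w V.1 V.2 := ⟨_, rfl⟩
    obtain ⟨a, ha⟩ : ∃ a : G, a = g V.1 V.2 := ⟨_, rfl⟩
    have h1 := CfsgLib.Char.natCard_carrier_mul_centralizer W
    have h2 : Nat.card (Subgroup.centralizer ({W} : Set K)) = 4 := by
      have e := hx.four_centralizer (mem_mems.1 hV) hV4 (hgV V.1 V.2) (hg1 V.1 V.2)
      rw [← hgw V.1 V.2] at e
      rw [← hV4, ← e, ← Subgroup.card_map_of_injective K.subtype_injective,
        ← card_cnj (g V.1 V.2)]
      refine congrArg (fun S : Subgroup G => Nat.card S) (Subgroup.ext fun b => ?_)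
      rw [mem_cnj, ← hW, ← ha, Subgroup.mem_centralizer_iff]
      constructor
      · rintro ⟨k, hk, hkb⟩ c hc
        change (k : G) = a⁻¹ * b * a at hkb
        have hk1 := Subgroup.mem_centralizer_singleton_iff.1 k.2
        have hk2 : (k : G) * W = W * k :=
          congrArg Subtype.val (Subgroup.mem_centralizer_singleton_iff.1 hk)
        rw [hkb] at hk1 hk2
        simp only [Set.mem_insert_iff, Set.mem_singleton_iff] at hc
        rcases hc with rfl | rfl
        · calc a * t * a⁻¹ * b = a * (t * (a⁻¹ * b * a)) * a⁻¹ := by group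
            _ = a * (a⁻¹ * b * a * t) * a⁻¹ := by rw [hk1]
            _ = b * (a * t * a⁻¹) := by group
        · calc a * (W : G) * a⁻¹ * b = a * ((W : G) * (a⁻¹ * b * a)) * a⁻¹ := by group
            _ = a * (a⁻¹ * b * a * W) * a⁻¹ := by rw [hk2]
            _ = b * (a * W * a⁻¹) := by group
      · intro hb
        have hb1 : a * t * a⁻¹ * b = b * (a * t * a⁻¹) := hb _ (by simp)
        have hb2 : a * (W : G) * a⁻¹ * b = b * (a * W * a⁻¹) := hb _ (by simp)
        refine ⟨⟨a⁻¹ * b * a, ?_⟩, ?_, rfl⟩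
        · rw [Subgroup.mem_centralizer_singleton_iff]
          calc a⁻¹ * b * a * t = a⁻¹ * (b * (a * t * a⁻¹)) * a := by group
            _ = a⁻¹ * (a * t * a⁻¹ * b) * a := by rw [hb1]
            _ = _ := by group
        · refine Subgroup.mem_centralizer_singleton_iff.2 (Subtype.ext ?_)
          show a⁻¹ * b * a * W = W * (a⁻¹ * b * a)
          calc a⁻¹ * b * a * W = a⁻¹ * (b * (a * W * a⁻¹)) * a := by group
            _ = a⁻¹ * (a * W * a⁻¹ * b) * a := by rw [hb2]
            _ = _ := by group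
    rw [h2] at h1
    rw [← h1, Nat.card_eq_fintype_card, Fintype.card_subtype, hW]
  have hsum : ∑ V, (f V).card ≤ Nat.card K - 1 := by
    rw [← Finset.card_biUnion, Nat.card_eq_fintype_card, ← Finset.card_univ,
      ← Finset.card_erase_of_mem (Finset.mem_univ (1 : K))]
    · refine Finset.card_le_card fun k hk => ?_
      obtain ⟨V, -, hk⟩ := Finset.mem_biUnion.1 hk
      refine Finset.mem_erase.2 ⟨fun e => ?_, Finset.mem_univ _⟩
      simp only [f, Finset.mem_filter, Finset.mem_univ, true_and, ConjClasses.mem_carrier_iff_mk_eq,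
        e, ConjClasses.mk_eq_mk_iff_isConj, isConj_one_right] at hk
      have h1 := hg1 V.1 V.2
      have h2 := hgw V.1 V.2
      rw [hk, OneMemClass.coe_one, mul_one, mul_inv_cancel] at h2
      exact h1 (conj_eq_one_iff.1 h2.symm)
    · intro V _ V' _ hne
      refine Finset.disjoint_left.2 fun k hk hk' => hne ?_
      simp only [f, Finset.mem_filter, Finset.mem_univ, true_and, ConjClasses.mem_carrier_iff_mk_eq]
        at hk hk'
      obtain ⟨m, hm⟩ := isConj_iff.1 (ConjClasses.mk_eq_mk_iff_isConj.1 (hk.symm.trans hk'))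
      obtain ⟨hV, hV6, hV4⟩ := Finset.mem_filter.1 V.2
      obtain ⟨hV', hV6', hV4'⟩ := Finset.mem_filter.1 V'.2
      have e := hx.four_centralizer (mem_mems.1 hV) hV4 (hgV V.1 V.2) (hg1 V.1 V.2)
      have e' := hx.four_centralizer (mem_mems.1 hV') hV4' (hgV V'.1 V'.2) (hg1 V'.1 V'.2)
      rw [← hgw V.1 V.2] at e
      rw [← hgw V'.1 V'.2] at e'
      obtain ⟨a, ha⟩ : ∃ a : G, a = g V.1 V.2 := ⟨_, rfl⟩
      obtain ⟨a', ha'⟩ : ∃ a : G, a = g V'.1 V'.2 := ⟨_, rfl⟩
      rw [← ha] at e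
      rw [← ha'] at e'
      have hmt : (m : G) * t * (m : G)⁻¹ = t :=
        mul_inv_eq_iff_eq_mul.2 (Subgroup.mem_centralizer_singleton_iff.1 m.2)
      have hmw : (m : G) * (w V.1 V.2 : G) * (m : G)⁻¹ = (w V'.1 V'.2 : G) :=
        congrArg Subtype.val hm
      refine Subtype.ext (hx.eq_of_cnj_six (mem_mems.1 hV) (mem_mems.1 hV') hV6.2
        (g := a' * m * a⁻¹) ?_).symm
      calc (V' : Subgroup G)
          = Subgroup.centralizer ({a' * t * a'⁻¹, a' * (w V'.1 V'.2 : G) * a'⁻¹} : Set G) := e'.symm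
        _ = cnj (a' * m * a⁻¹)
              (Subgroup.centralizer ({a * t * a⁻¹, a * (w V.1 V.2 : G) * a⁻¹} : Set G)) := by
            rw [← hmw]
            nth_rw 1 [← hmt]
            ext b
            simp only [mem_cnj, Subgroup.mem_centralizer_iff, Set.mem_insert_iff,
              Set.mem_singleton_iff, forall_eq_or_imp, forall_eq]
            have key : ∀ p : G, a' * ((m : G) * p * (m : G)⁻¹) * a'⁻¹ * b =
                b * (a' * ((m : G) * p * (m : G)⁻¹) * a'⁻¹) ↔
                a * p * a⁻¹ * ((a' * m * a⁻¹)⁻¹ * b * (a' * m * a⁻¹)) =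
                (a' * m * a⁻¹)⁻¹ * b * (a' * m * a⁻¹) * (a * p * a⁻¹) := by
              intro p
              constructor <;> intro hp
              · calc _ = (a' * m * a⁻¹)⁻¹ * (a' * ((m : G) * p * (m : G)⁻¹) * a'⁻¹ * b) *
                      (a' * m * a⁻¹) := by group
                  _ = _ := by rw [hp]; group
              · calc _ = (a' * m * a⁻¹) * (a * p * a⁻¹ *
                      ((a' * m * a⁻¹)⁻¹ * b * (a' * m * a⁻¹))) * (a' * m * a⁻¹)⁻¹ := by group
                  _ = _ := by rw [hp]; group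
            exact and_congr (key t) (key _)
        _ = cnj (a' * m * a⁻¹) V := by rw [e]
  have h1 : (Finset.univ : Finset F).card * Nat.card K = 4 * ∑ V, (f V).card := by
    rw [mul_comm 4, Finset.sum_mul, Finset.sum_congr rfl fun V _ => hcard V, Finset.sum_const,
      smul_eq_mul]
  rw [Finset.card_univ, Fintype.card_coe] at h1
  have hpos := Nat.card_pos (α := K)
  by_contra hc
  have := Nat.mul_le_mul_right (Nat.card K) (not_le.1 hc : 4 ≤ F.card)
  omega

/-- A Sylow subgroup member and a member of order four do not occur together. -/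
theorem not_isT_and_four {T : Subgroup G} (hT : Mem x T) (hTT : IsT T) (hV : Mem x V) (hV6 : IsSix V)
    (hV4 : Nat.card V = 4) : False := by
  haveI : Fact (Nat.Prime 2) := ⟨Nat.prime_two⟩
  obtain ⟨k, hk⟩ := IsPGroup.iff_card.1 hTT.1
  have hpart : IsPart 2 T T := by
    refine ⟨le_rfl, ?_, fun g hg _ => hg⟩
    rw [hk, Nat.Prime.factorization_pow Nat.prime_two, Finsupp.single_eq_same]
  have hv := hx.part_full hT Nat.prime_two hpart (hT.two_dvd hTT.1) (Or.inr hTT.2)
  have h8 : 8 ∣ Nat.card T := by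
    have h1 : 2 ^ 3 ∣ Nat.card G := by
      refine Nat.dvd_trans ?_ (Subgroup.card_subgroup_dvd_card (Subgroup.normalizer (V : Set G)))
      rw [hV6.2, hV4]; norm_num
    have h3 := (Nat.prime_two.pow_dvd_iff_le_factorization Nat.card_pos.ne').1 h1
    have h4 := (Nat.prime_two.pow_dvd_iff_le_factorization (Nat.card_pos (α := T)).ne').2 (hv ▸ h3)
    exact h4
  have h8' := Nat.le_of_dvd Nat.card_pos h8
  obtain ⟨Q, hQ⟩ := hV6.1.exists_le_sylow
  let S : Sylow 2 G := Sylow.ofCard T (by rw [hpart.2.1, hv])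
  obtain ⟨g, hg⟩ := MulAction.exists_smul_eq G Q S
  have hgV : cnj g V ≤ T := by
    intro a ha
    rw [show T = (S : Subgroup G) from (Sylow.coe_ofCard _ _).symm, ← hg, Sylow.coe_subgroup_smul]
    have := Subgroup.smul_mem_pointwise_smul _ (MulAut.conj g) (Q : Subgroup G) (hQ (mem_cnj.1 ha))
    rwa [MulAut.smul_def, MulAut.conj_apply, show g * (g⁻¹ * a * g) * g⁻¹ = a by group] at this
  have hCV : ∀ W : Subgroup G, (∀ a ∈ W, ∀ b ∈ cnj g V, b * a = a * b) → cnj g⁻¹ W ≤ V := by
    intro W hW a ha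
    obtain ⟨⟨z, hz⟩, hz1⟩ : ∃ z : V, z ≠ 1 := by
      haveI : Nontrivial V := (Subgroup.nontrivial_iff_ne_bot V).2 hV.ne
      exact exists_ne 1
    rw [← hx.four_centralizer hV hV4 hz fun e => hz1 (Subtype.ext e), Subgroup.mem_centralizer_iff]
    intro b hb
    have hbV : b ∈ V := by
      simp only [Set.mem_insert_iff, Set.mem_singleton_iff] at hb
      rcases hb with rfl | rfl
      · exact hz
      · exact (Subgroup.mem_normalizer_iff.1 hV.inv.1 z).1 hz
    rw [mem_cnj, inv_inv] at ha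
    have := hW _ ha (g * b * g⁻¹) (mem_cnj.2 (by simpa [mul_assoc] using hbV))
    calc b * a = g⁻¹ * (g * b * g⁻¹ * (g * a * g⁻¹)) * g := by group
      _ = g⁻¹ * (g * a * g⁻¹ * (g * b * g⁻¹)) * g := by rw [this]
      _ = a * b := by group
  obtain ⟨-, hZ4⟩ := hx.four_le_center hT
  set Z := T ⊓ Subgroup.centralizer (T : Set G)
  have hZV : cnj g⁻¹ Z ≤ V := hCV Z fun a ha b hb =>
    Subgroup.mem_centralizer_iff.1 (Subgroup.mem_inf.1 ha).2 b (hgV hb)
  have hZeq : cnj g⁻¹ Z = V := Subgroup.eq_of_le_of_card_ge hZV (by rw [card_cnj, hV4]; exact hZ4)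
  have hgVZ : cnj g V = Z := by rw [← hZeq, cnj_cnj, mul_inv_cancel, cnj_one]
  have hTV : cnj g⁻¹ T ≤ V := hCV T fun a ha b hb =>
    (Subgroup.mem_centralizer_iff.1 (Subgroup.mem_inf.1 (hgVZ ▸ hb)).2 a ha).symm
  have := Subgroup.card_le_of_le hTV
  rw [card_cnj, hV4] at this
  omega

/-- A member of order sixteen with an inverting element in the normalizer is abelian. -/
theorem sixteen_comm (hR : Mem x R) (hR16 : Nat.card R = 16) :
    ∀ a ∈ R, ∀ b ∈ R, a * b = b * a := by
  obtain ⟨hZi, hZ4⟩ := hx.four_le_center hR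
  set Z := R ⊓ Subgroup.centralizer (R : Set G)
  by_cases hRC : R ≤ Subgroup.centralizer (R : Set G)
  · exact fun a ha b hb => Subgroup.mem_centralizer_iff.1 (hRC hb) a ha
  obtain ⟨a, haR, haC⟩ := SetLike.not_le_iff_exists.1 hRC
  obtain ⟨hab, habc, hcc⟩ := hx.hyp.rel (hR.inv.mul_cube hx.hyp haR).1 (hR.inv.mul_cube hx.hyp haR).2
  have hbR : x * a * x⁻¹ ∈ R := (Subgroup.mem_normalizer_iff.1 hR.inv.1 a).1 haR
  set S := Subgroup.closure ((Z : Set G) ∪ {a, x * a * x⁻¹})
  have hgen : ((Z : Set G) ∪ {a, x * a * x⁻¹}) ⊆ (R : Set G) := by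
    rintro p (hp | hp | hp)
    · exact (Subgroup.mem_inf.1 hp).1
    · rw [hp]; exact haR
    · rw [Set.mem_singleton_iff] at hp; rw [hp]; exact hbR
  have hSR : S ≤ R := (Subgroup.closure_le R).2 hgen
  haveI hSc : IsMulCommutative S := Subgroup.isMulCommutative_closure (by
    intro p hp q hq
    rcases hp with hp' | hp'
    · exact (Subgroup.mem_centralizer_iff.1 (Subgroup.mem_inf.1 hp').2 q (hgen hq)).symm
    rcases hq with hq' | hq'
    · exact Subgroup.mem_centralizer_iff.1 (Subgroup.mem_inf.1 hq').2 p (hgen (Or.inr hp'))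
    simp only [Set.mem_insert_iff, Set.mem_singleton_iff] at hp' hq'
    rcases hp' with rfl | rfl <;> rcases hq' with rfl | rfl
    · rfl
    · exact hab.eq
    · exact hab.eq.symm
    · rfl)
  have hxS : x ∈ Subgroup.normalizer (S : Set G) := by
    refine mem_normalizer_of_cnj_eq (Subgroup.eq_of_le_of_card_ge ?_ (card_cnj _ _).ge)
    rw [cnj, MonoidHom.map_closure, Subgroup.closure_le]
    rintro _ ⟨p, hp, rfl⟩
    show x * p * x⁻¹ ∈ S
    rcases hp with hp | hp
    · exact Subgroup.subset_closure (Or.inl ((Subgroup.mem_normalizer_iff.1 hZi.1 p).1 hp))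
    simp only [Set.mem_insert_iff, Set.mem_singleton_iff] at hp
    rcases hp with rfl | rfl
    · exact Subgroup.subset_closure (Or.inr (by simp))
    · rw [hcc, eq_inv_of_mul_eq_one_right habc]
      exact inv_mem (mul_mem (Subgroup.subset_closure (Or.inr (by simp)))
        (Subgroup.subset_closure (Or.inr (by simp))))
  have hS : Inv x S := ⟨hxS, fun h => hR.inv.2 (h.trans (Subgroup.card_dvd_of_le hSR))⟩
  have hmod := hS.card_mod hx.hyp
  have hZS : Z < S := lt_of_le_of_ne (fun p hp => Subgroup.subset_closure (Or.inl hp)) fun e => by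
    refine haC (Subgroup.mem_inf.1 (show a ∈ Z from e ▸ Subgroup.subset_closure (Or.inr (by simp)))).2
  have hlt : Nat.card Z < Nat.card S := lt_of_le_of_ne (Subgroup.card_le_of_le hZS.le) fun e =>
    hZS.ne (Subgroup.eq_of_le_of_card_ge hZS.le e.ge)
  have hd : Nat.card S ∣ 16 := hR16 ▸ Subgroup.card_dvd_of_le hSR
  have hS16 : Nat.card S = 16 := by
    have := Nat.le_of_dvd (by norm_num) hd
    interval_cases hk : Nat.card S <;> omega
  have hRS := Subgroup.eq_of_le_of_card_ge hSR (by rw [hS16, hR16])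
  intro p hp q hq
  exact congrArg Subtype.val
    (mul_comm' (⟨p, hRS.symm ▸ hp⟩ : S) ⟨q, hRS.symm ▸ hq⟩)

/-- The two-group extending a member of order sixteen by an inverting element. -/
theorem sixteen_sylow (hR : Mem x R) (hR6 : IsSix R) (hR16 : Nat.card R = 16)
    (ht : IsInverter x t) :
    ∃ P : Sylow 2 G, Nat.card (P : Subgroup G) = 32 ∧ R ≤ P ∧
      ∀ A : Subgroup G, A ≤ P → Nat.card A = 16 → (∀ a ∈ A, ∀ b ∈ A, a * b = b * a) → A = R := by
  haveI : Fact (Nat.Prime 2) := ⟨Nat.prime_two⟩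
  have htN := (hx.mem_normalizer_iff_six hR ht).2 hR6.2
  have htR : t ∉ R := ht.not_mem hx.hyp hR.inv
  have hcomm := hx.sixteen_comm hR hR16
  obtain ⟨j, hj, hC, he⟩ := hx.exists_sqrt hR hR6 ht
  have hC4 : Nat.card ↥(R ⊓ Subgroup.centralizer ({t} : Set G)) = 4 := by
    rw [hR16] at he
    rw [hC]
    nlinarith
  have := Fintype.ofFinite G
  set P := R ⊔ Subgroup.zpowers t
  have hP2 : IsPGroup 2 P := IsPGroup.to_sup_of_normal_left' hR6.1
    (IsPGroup.of_card (n := 1) (by rw [Nat.card_zpowers, ht.orderOf_eq hx.hyp, pow_one]))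
    (Subgroup.zpowers_le.2 htN)
  have hPN : P ≤ Subgroup.normalizer (R : Set G) := sup_le Subgroup.le_normalizer (Subgroup.zpowers_le.2 htN)
  have hRP : R ≤ P := le_sup_left
  have htP : t ∈ P := Subgroup.mem_sup_right (Subgroup.mem_zpowers t)
  -- two-subgroups of the normalizer have order at most 32
  have hbound : ∀ B : Subgroup G, IsPGroup 2 B → B ≤ Subgroup.normalizer (R : Set G) →
      Nat.card B ≤ 32 := by
    intro B hB hBN
    obtain ⟨k, hk⟩ := IsPGroup.iff_card.1 hB
    have hd : 2 ^ k ∣ 32 * 3 := by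
      have := Subgroup.card_dvd_of_le hBN
      rw [hk, hR6.2, hR16] at this
      exact this
    rw [hk]
    exact Nat.le_of_dvd (by norm_num)
      ((((Nat.coprime_primes Nat.prime_two Nat.prime_three).2 (by norm_num)).pow_left k).dvd_of_dvd_mul_right hd)
  have hP32 : Nat.card P = 32 := by
    have h1 := hbound P hP2 hPN
    have h2 : Nat.card R < Nat.card P := lt_of_le_of_ne (Subgroup.card_le_of_le hRP) fun e =>
      htR ((Subgroup.eq_of_le_of_card_ge hRP e.ge).symm ▸ htP)
    have h3 := Subgroup.card_dvd_of_le hRP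
    rw [hR16] at h2 h3
    obtain ⟨i, hi⟩ := h3
    omega
  have hidx : (R.subgroupOf P).index = 2 := by
    have h1 := (R.subgroupOf P).card_mul_index
    rw [Nat.card_congr (Subgroup.subgroupOfEquivOfLe hRP).toEquiv, hR16, hP32] at h1
    omega
  have hmul : ∀ {p q : G}, p ∈ P → q ∈ P → p ∉ R → q ∉ R → p * q ∈ R := by
    intro p q hp hq hpR hqR
    have := (Subgroup.mul_mem_iff_of_index_two hidx (a := (⟨p, hp⟩ : P)) (b := ⟨q, hq⟩)).2
      (iff_of_false hpR hqR)
    exact this
  -- abelian subgroups of order sixteen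
  have huniq : ∀ A : Subgroup G, A ≤ P → Nat.card A = 16 → (∀ a ∈ A, ∀ b ∈ A, a * b = b * a) →
      A = R := by
    intro A hAP hA16 hAc
    by_contra hne
    obtain ⟨a, haA, haR⟩ := SetLike.not_le_iff_exists.1 fun hle : A ≤ R =>
      hne (Subgroup.eq_of_le_of_card_ge hle (by rw [hA16, hR16]))
    have h2 : Nat.card A ≤ Nat.card (↥(A ⊓ R) × Bool) := by
      classical
      refine Nat.card_le_card_of_injective (fun b : A => if hb : (b : G) ∈ R then
        ((⟨b, Subgroup.mem_inf.2 ⟨b.2, hb⟩⟩ : ↥(A ⊓ R)), true)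
        else ((⟨a * b, Subgroup.mem_inf.2 ⟨mul_mem haA b.2,
          hmul (hAP haA) (hAP b.2) haR hb⟩⟩ : ↥(A ⊓ R)), false)) ?_
      intro b b' e
      by_cases hb : (b : G) ∈ R <;> by_cases hb' : (b' : G) ∈ R <;>
        simp only [hb, hb', dif_pos, dif_neg, not_false_iff, Prod.mk.injEq, Subtype.mk.injEq,
          Bool.false_eq_true, Bool.true_eq_false, and_false, and_true, mul_right_inj] at e
      · exact Subtype.ext e
      · exact Subtype.ext e
    have hle : A ⊓ R ≤ R ⊓ Subgroup.centralizer ({t} : Set G) := by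
      intro b hb
      obtain ⟨hbA, hbR⟩ := Subgroup.mem_inf.1 hb
      refine Subgroup.mem_inf.2 ⟨hbR, Subgroup.mem_centralizer_singleton_iff.2 ?_⟩
      have hq : a⁻¹ * t ∈ R := hmul (inv_mem (hAP haA)) htP (fun h => haR (by simpa using inv_mem h)) htR
      calc b * t = b * a * (a⁻¹ * t) := by group
        _ = a * b * (a⁻¹ * t) := by rw [hAc b hbA a haA]
        _ = a * (b * (a⁻¹ * t)) := mul_assoc _ _ _
        _ = a * (a⁻¹ * t * b) := by rw [hcomm b hbR _ hq]
        _ = t * b := by group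
    have h3 := Subgroup.card_le_of_le hle
    rw [hA16, Nat.card_prod, Nat.card_eq_fintype_card (α := Bool), Fintype.card_bool] at h2
    omega
  obtain ⟨Q, hQ⟩ := hP2.exists_le_sylow
  by_cases hQP : P = (Q : Subgroup G)
  · exact ⟨Q, hQP ▸ hP32, hQP ▸ hRP, fun A hA => huniq A (hQP.symm ▸ hA)⟩
  exfalso
  haveI := Q.2.isNilpotent
  have h1 : P.subgroupOf (Q : Subgroup G) < ⊤ := lt_top_iff_ne_top.2 fun e' => by
    rw [Subgroup.subgroupOf_eq_top] at e'
    exact hQP (le_antisymm hQ e')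
  obtain ⟨g, hg, hgP⟩ := SetLike.exists_of_lt
    (Group.normalizerCondition_of_isNilpotent (G := (Q : Subgroup G)) _ h1)
  have hgR : cnj (g : G) R = R := by
    refine huniq _ (fun a ha => ?_) (by rw [card_cnj, hR16]) ?_
    · have h2 : (g : G)⁻¹ * a * g ∈ P := hRP (mem_cnj.1 ha)
      have h3 := (Subgroup.mem_normalizer_iff.1 hg ⟨_, hQ h2⟩).1 (Subgroup.mem_subgroupOf.2 h2)
      have h4 := Subgroup.mem_subgroupOf.1 h3
      simp only [Subgroup.coe_mul, InvMemClass.coe_inv] at h4
      rwa [show (g : G) * ((g : G)⁻¹ * a * g) * (g : G)⁻¹ = a by group] at h4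
    · intro a ha b hb
      have := hcomm _ (mem_cnj.1 ha) _ (mem_cnj.1 hb)
      calc a * b = (g : G) * ((g : G)⁻¹ * a * g * ((g : G)⁻¹ * b * g)) * (g : G)⁻¹ := by group
        _ = (g : G) * ((g : G)⁻¹ * b * g * ((g : G)⁻¹ * a * g)) * (g : G)⁻¹ := by rw [this]
        _ = b * a := by group
  have hgN := mem_normalizer_of_cnj_eq hgR
  set B := P ⊔ Subgroup.zpowers (g : G)
  have h2 := hbound B (Q.2.to_le (sup_le hQ (Subgroup.zpowers_le.2 g.2)))
    (sup_le hPN (Subgroup.zpowers_le.2 hgN))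
  have h3 : P = B := Subgroup.eq_of_le_of_card_ge le_sup_left (by rw [hP32]; exact h2)
  exact hgP (Subgroup.mem_subgroupOf.2 (h3 ▸ Subgroup.mem_sup_right (Subgroup.mem_zpowers (g : G))))

/-- Consequences of a member of order sixteen with an inverting element in the normalizer. -/
theorem sixteen_consequences (hR : Mem x R) (hR6 : IsSix R) (hR16 : Nat.card R = 16) :
    (∀ M, Mem x M → ¬ IsT M) ∧
    (∀ M, Mem x M → IsSix M → Nat.card M ≤ 16) ∧
    (∀ M, Mem x M → IsSix M → Nat.card M = 16 → M = R) := by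
  haveI : Fact (Nat.Prime 2) := ⟨Nat.prime_two⟩
  obtain ⟨t, ht⟩ := hx.hyp.exists_inverter hx.nc
  obtain ⟨P, hP, hRP, hPu⟩ := hx.sixteen_sylow hR hR6 hR16 ht
  have hv : (Nat.card G).factorization 2 = 5 := by
    have := P.card_eq_multiplicity
    rw [hP] at this
    exact Nat.pow_right_injective le_rfl (this.symm.trans (by norm_num))
  refine ⟨fun M hM hT => ?_, fun M hM h6 => ?_, fun M hM h6 h16 => ?_⟩
  · obtain ⟨k, hk⟩ := IsPGroup.iff_card.1 hT.1
    have hpart : IsPart 2 M M := by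
      refine ⟨le_rfl, ?_, fun g hg _ => hg⟩
      rw [hk, Nat.Prime.factorization_pow Nat.prime_two, Finsupp.single_eq_same]
    have h1 := hx.part_full hM Nat.prime_two hpart (hM.two_dvd hT.1) (Or.inr hT.2)
    have h2 := hM.inv.card_mod hx.hyp
    rw [hpart.2.1, h1, hv] at h2
    norm_num at h2
  · obtain ⟨k, hk⟩ := IsPGroup.iff_card.1 h6.1
    have h1 : 2 ^ (k + 1) ∣ Nat.card G := by
      refine Nat.dvd_trans ⟨3, ?_⟩ (Subgroup.card_subgroup_dvd_card (Subgroup.normalizer (M : Set G)))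
      rw [h6.2, hk]; ring
    have h2 := (Nat.prime_two.pow_dvd_iff_le_factorization Nat.card_pos.ne').1 h1
    rw [hk]
    calc 2 ^ k ≤ 2 ^ 4 := Nat.pow_le_pow_right (by norm_num) (by omega)
      _ = 16 := by norm_num
  · obtain ⟨Q, hQ, hMQ, hQu⟩ := hx.sixteen_sylow hM h6 h16 ht
    obtain ⟨g, hg⟩ := MulAction.exists_smul_eq G P Q
    refine hx.eq_of_cnj_six hR hM hR6.2 (g := g) (hQu _ (fun a ha => ?_) (by rw [card_cnj, hR16]) ?_).symm
    · rw [← hg, Sylow.coe_subgroup_smul]
      have := Subgroup.smul_mem_pointwise_smul _ (MulAut.conj g) (P : Subgroup G) (hRP (mem_cnj.1 ha))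
      rwa [MulAut.smul_def, MulAut.conj_apply, show g * (g⁻¹ * a * g) * g⁻¹ = a by group] at this
    · intro a ha b hb
      have := hx.sixteen_comm hR hR16 _ (mem_cnj.1 ha) _ (mem_cnj.1 hb)
      calc a * b = g * (g⁻¹ * a * g * (g⁻¹ * b * g)) * g⁻¹ := by group
        _ = g * (g⁻¹ * b * g * (g⁻¹ * a * g)) * g⁻¹ := by rw [this]
        _ = b * a := by group

end Ctx

end CfsgLib.Recog.SelfCentThree
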