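import Cfsg.Agent.Lib.Recog.SelfCentThree.Conc

/-!
The maximal invariant subgroups of order prime to three in the minimal simple situation.
-/

set_option autoImplicit false
set_option linter.unusedSectionVars false
set_option linter.style.haveILetI false

namespace CfsgLib.Recog.SelfCentThree

open Subgroup

universe u

variable {G : Type u} [Group G] [Finite G] [IsSimpleGroup G] {x : G}

/-- A simple group in which every proper subgroup containing `x` has one of the known structures. -/
structure Ctx (x : G) : Prop where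
  hyp : Hyp x
  nc : ¬ IsMulCommutative G
  loc : ∀ H : Subgroup G, H ≠ ⊤ → x ∈ H → Conc H

/-- A maximal invariant subgroup. -/
structure Mem (x : G) (M : Subgroup G) : Prop where
  inv : Inv x M
  ne : M ≠ ⊥
  eq_of_le : ∀ S : Subgroup G, Inv x S → M ≤ S → S = M

/-- A maximal invariant subgroup that is a Sylow 2-subgroup with normalizer of index three over it. -/
def IsT (M : Subgroup G) : Prop :=
  IsPGroup 2 M ∧ Nat.card ↥(Subgroup.normalizer (M : Set G)) = 3 * Nat.card M

/-- The part of `M` of order a power of `q`. -/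
def IsPart (q : ℕ) (M R : Subgroup G) : Prop :=
  R ≤ M ∧ Nat.card R = q ^ (Nat.card M).factorization q ∧
    ∀ g ∈ M, (∃ k, orderOf g = q ^ k) → g ∈ R

theorem exists_mem_le {S : Subgroup G} (hS : Inv x S) (hS0 : S ≠ ⊥) : ∃ M, Mem x M ∧ S ≤ M := by
  obtain ⟨M, hSM, hM⟩ := (Set.toFinite {S : Subgroup G | Inv x S}).exists_le_maximal hS
  refine ⟨M, ⟨hM.prop, fun e => hS0 (le_bot_iff.1 (e ▸ hSM)), fun T hT hMT => ?_⟩, hSM⟩
  exact le_antisymm (hM.le_of_ge hT hMT) hMT

theorem Inv.normalizer_ne_top {M : Subgroup G} (hM : Inv x M) (h : Hyp x) (hM0 : M ≠ ⊥) :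
    Subgroup.normalizer (M : Set G) ≠ ⊤ := by
  intro e
  rcases IsSimpleGroup.eq_bot_or_eq_top_of_normal M (Subgroup.normalizer_eq_top_iff.1 e) with e' | e'
  · exact hM0 e'
  · exact hM.2 (by rw [e', Subgroup.card_top]; exact h.three_dvd)

theorem Inv.conj_inverter {M : Subgroup G} (hM : Inv x M) {t : G} (ht : IsInverter x t) :
    Inv x (M.map (MulAut.conj t).toMonoidHom) := by
  refine ⟨?_, fun h3 => hM.2 ?_⟩
  · rw [Subgroup.mem_normalizer_iff]
    intro g
    simp only [Subgroup.mem_map_equiv, MulAut.conj_symm_apply, ht.inv_eq]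
    have e : t * x = x⁻¹ * t := by rw [← ht.2]; group
    have e' : x⁻¹ * t = t * x := e.symm
    rw [show t * (x * g * x⁻¹) * t = (t * x) * g * (x⁻¹ * t) by group, e, e',
      Subgroup.mem_normalizer_iff.1 (inv_mem hM.1) (t * g * t), inv_inv,
      show x⁻¹ * (t * g * t) * x = x⁻¹ * t * g * (t * x) by group, e]
  · rwa [Subgroup.card_map_of_injective (MulAut.conj t).injective] at h3

namespace Ctx

variable (hx : Ctx x)
include hx

/-- The structure of the normalizer of a nontrivial invariant subgroup. -/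
theorem cover {D : Subgroup G} (hD : Inv x D) (hD0 : D ≠ ⊥) :
    (∃ K : Subgroup G, K ≤ Subgroup.normalizer (D : Set G) ∧ Inv x K ∧
      Subgroup.normalizer (D : Set G) ≤ Subgroup.normalizer (K : Set G) ∧
      (Nat.card ↥(Subgroup.normalizer (D : Set G)) = 3 * Nat.card K ∨
        Nat.card ↥(Subgroup.normalizer (D : Set G)) = 6 * Nat.card K) ∧
      ∀ S ≤ Subgroup.normalizer (D : Set G), Inv x S → S ≤ K) ∨
    ∃ c : ℕ, (∀ t, IsInverter x t → t ∈ Subgroup.normalizer (D : Set G)) ∧
      (∀ S ≤ Subgroup.normalizer (D : Set G), Inv x S → ∃ W ≤ Subgroup.normalizer (D : Set G),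
        Inv x W ∧ IsPGroup 2 W ∧ Nat.card W = c ∧ S ≤ W) ∧
      (∀ W ≤ Subgroup.normalizer (D : Set G), Inv x W → Nat.card W = c →
        ∀ t, IsInverter x t → t ∉ Subgroup.normalizer (W : Set G)) := by
  set H := Subgroup.normalizer (D : Set G)
  have hxH : x ∈ H := hD.1
  have hH : Hyp (⟨x, hxH⟩ : H) := hx.hyp.subtype hxH
  have hDe : Nat.card (D.subgroupOf H) = Nat.card D :=
    Nat.card_congr (Subgroup.subgroupOfEquivOfLe Subgroup.le_normalizer).toEquiv
  rcases SelfCentThree.cover hH (hx.loc H (hD.normalizer_ne_top hx.hyp hD0) hxH) (D.subgroupOf H)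
      (by rw [hDe]; exact hD.2)
      (fun e => hD0 (Subgroup.card_eq_one.1 (by rw [← hDe, e, Subgroup.card_bot]))) with
    ⟨K, hK, hK3, hKi, hKS⟩ | ⟨c, ⟨t, ht⟩, hS, hW⟩
  · have hKinv : Inv (⟨x, hxH⟩ : H) K := by
      refine ⟨?_, hK3⟩
      rw [Subgroup.normalizer_eq_top_iff.2 hK]
      trivial
    refine Or.inl ⟨K.map H.subtype, Subgroup.map_subtype_le _, hKinv.map, fun g hg => ?_, ?_,
      fun S hS hSi => ?_⟩
    · have := Subgroup.le_normalizer_map H.subtype (H := K)
        (Subgroup.mem_map_of_mem H.subtype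
          (show (⟨g, hg⟩ : H) ∈ Subgroup.normalizer (K : Set H) by
            rw [Subgroup.normalizer_eq_top_iff.2 hK]; trivial))
      exact this
    · have h1 := K.card_mul_index
      rw [Subgroup.card_map_of_injective H.subtype_injective]
      rcases hKi with e | e <;> rw [e] at h1 <;> omega
    · have h1 := Subgroup.map_mono (f := H.subtype) (hKS _ (hSi.subgroupOf hxH hS))
      rwa [Subgroup.map_subgroupOf_eq_of_le hS] at h1
  · have ht' : IsInverter x (t : G) := ht.map H.subtype
    refine Or.inr ⟨c, fun s hs => ?_, fun S hSH hSi => ?_, fun W hWH hWi hWc s hs hsW => ?_⟩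
    · have := Subgroup.zpowers_le.2 hxH (ht'.mul_mem_zpowers hx.hyp hs.2)
      have e := mul_mem (inv_mem t.2) this
      rwa [inv_mul_cancel_left] at e
    · obtain ⟨W, hW1, hW2, hWc, hSW⟩ := hS _ (hSi.subgroupOf hxH hSH)
      refine ⟨W.map H.subtype, Subgroup.map_subtype_le _, hW1.map,
        hW2.map H.subtype, by rw [Subgroup.card_map_of_injective H.subtype_injective]; exact hWc, ?_⟩
      have h1 := Subgroup.map_mono (f := H.subtype) hSW
      rwa [Subgroup.map_subgroupOf_eq_of_le hSH] at h1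
    · have hsH : s ∈ H := by
        have := Subgroup.zpowers_le.2 hxH (ht'.mul_mem_zpowers hx.hyp hs.2)
        have e := mul_mem (inv_mem t.2) this
        rwa [inv_mul_cancel_left] at e
      refine hW _ (hWi.subgroupOf hxH hWH)
        ((Nat.card_congr (Subgroup.subgroupOfEquivOfLe hWH).toEquiv).trans hWc) ⟨s, hsH⟩
        ⟨Subtype.ext hs.1, Subtype.ext hs.2⟩ ?_
      rw [Subgroup.mem_normalizer_iff]
      intro m
      simp only [Subgroup.mem_subgroupOf, Subgroup.coe_mul, InvMemClass.coe_inv]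
      exact Subgroup.mem_normalizer_iff.1 hsW _

variable {M M' : Subgroup G}

/-- The two possibilities for the normalizer of a maximal invariant subgroup. -/
theorem card_normalizer (hM : Mem x M) :
    (Nat.card ↥(Subgroup.normalizer (M : Set G)) = 3 * Nat.card M ∧
      ∀ t, IsInverter x t → t ∉ Subgroup.normalizer (M : Set G)) ∨
    (Nat.card ↥(Subgroup.normalizer (M : Set G)) = 6 * Nat.card M ∧
      ∀ t, IsInverter x t → t ∈ Subgroup.normalizer (M : Set G)) := by
  rcases hx.cover hM.inv hM.ne with ⟨K, hKH, hK, hKn, hKc, hKS⟩ | ⟨c, ht, hS, hW⟩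
  · obtain rfl := hM.eq_of_le K hK (hKS M Subgroup.le_normalizer hM.inv)
    rcases hKc with e | e
    · refine Or.inl ⟨e, fun t ht htN => ?_⟩
      have := hM.inv.six_mul_card_le hx.hyp ht htN
      have := Nat.card_pos (α := K)
      omega
    · refine Or.inr ⟨e, fun t ht => ?_⟩
      rcases (hx.hyp.subtype hM.inv.1).inverter_or_complement with ⟨s, hs⟩ | ⟨N, hN, hN3, hNi⟩
      · have hs' : IsInverter x (s : G) := hs.map (Subgroup.normalizer (K : Set G)).subtype
        have := Subgroup.zpowers_le.2 hM.inv.1 (hs'.mul_mem_zpowers hx.hyp ht.2)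
        have e' := mul_mem (inv_mem s.2) this
        rwa [inv_mul_cancel_left] at e'
      · exfalso
        have hNinv : Inv (⟨x, hM.inv.1⟩ : Subgroup.normalizer (K : Set G)) N := by
          refine ⟨?_, hN3⟩
          rw [Subgroup.normalizer_eq_top_iff.2 hN]
          trivial
        have hle := Subgroup.card_le_of_le (hKS _ (Subgroup.map_subtype_le _) hNinv.map)
        rw [Subgroup.card_map_of_injective (Subgroup.subtype_injective _)] at hle
        have h1 := N.card_mul_index
        rw [hNi, e] at h1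
        have := Nat.card_pos (α := K)
        omega
  · obtain ⟨W, hWH, hWi, -, hWc, hMW⟩ := hS M Subgroup.le_normalizer hM.inv
    obtain rfl := hM.eq_of_le W hWi hMW
    obtain ⟨t, ht'⟩ := hx.hyp.exists_inverter hx.nc
    exact absurd (ht t ht') (hW W hWH hWi hWc t ht')

/-- Two different maximal invariant subgroups meet trivially unless both are such Sylow subgroups. -/
theorem inf_eq_bot (hM : Mem x M) (hM' : Mem x M') (hne : M ≠ M') :
    M ⊓ M' = ⊥ ∨ (IsT M ∧ IsT M') := by
  suffices key : ∀ (k : ℕ) (A B : Subgroup G), Mem x A → Mem x B → A ≠ B →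
      Nat.card G - Nat.card ↥(A ⊓ B) = k → A ⊓ B ≠ ⊥ → IsT A ∧ IsT B by
    by_cases h0 : M ⊓ M' = ⊥
    · exact Or.inl h0
    · exact Or.inr (key _ M M' hM hM' hne rfl h0)
  intro k
  induction k using Nat.strong_induction_on with
  | _ k ih =>
  intro A B hA hB hAB hk hD0
  -- a pair with a larger intersection
  have bigger : ∀ {A₁ B₁ : Subgroup G}, Mem x A₁ → Mem x B₁ → A₁ ≠ B₁ → A ⊓ B < A₁ ⊓ B₁ →
      IsT A₁ ∧ IsT B₁ := by
    intro A₁ B₁ h1 h2 h12 hlt
    refine ih _ ?_ A₁ B₁ h1 h2 h12 rfl (ne_bot_of_gt hlt)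
    have hle := Subgroup.card_le_of_le hlt.le
    have hne' : Nat.card ↥(A ⊓ B) ≠ Nat.card ↥(A₁ ⊓ B₁) := fun e =>
      hlt.ne (Subgroup.eq_of_le_of_card_ge hlt.le e.ge)
    have := Subgroup.card_le_card_group (A₁ ⊓ B₁)
    omega
  set D := A ⊓ B with hD
  have hDinv : Inv x D := hA.inv.inf hB.inv.1
  set H := Subgroup.normalizer (D : Set G)
  have hSi : ∀ {C : Subgroup G}, Mem x C → Inv x (C ⊓ H) := fun hC =>
    hC.inv.inf (Subgroup.le_normalizer hDinv.1)
  have hgrow : ∀ {C : Subgroup G}, Mem x C → D ≤ C → D ≠ C → D < C ⊓ H := by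
    intro C hC hDC hDne
    refine lt_of_le_of_ne (le_inf hDC Subgroup.le_normalizer) fun e => ?_
    haveI := hC.inv.isNilpotent hx.hyp
    have h1 : D.subgroupOf C < ⊤ := lt_top_iff_ne_top.2 fun e' => by
      rw [Subgroup.subgroupOf_eq_top] at e'
      exact hDne (le_antisymm hDC e')
    obtain ⟨g, hg, hgD⟩ := SetLike.exists_of_lt
      (Group.normalizerCondition_of_isNilpotent (G := C) _ h1)
    refine hgD ?_
    rw [Subgroup.mem_subgroupOf, e]
    refine Subgroup.mem_inf.2 ⟨g.2, Subgroup.mem_normalizer_iff.2 fun d => ?_⟩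
    constructor
    · intro hd
      exact (Subgroup.mem_normalizer_iff.1 hg ⟨d, hDC hd⟩).1 (Subgroup.mem_subgroupOf.2 hd)
    · intro hd
      have hdC : d ∈ C := by
        have := mul_mem (mul_mem (inv_mem g.2) (hDC hd)) g.2
        simpa [mul_assoc] using this
      exact Subgroup.mem_subgroupOf.1 ((Subgroup.mem_normalizer_iff.1 hg ⟨d, hdC⟩).2
        (Subgroup.mem_subgroupOf.2 hd))
  have hDA : D ≠ A := fun e => hAB (hA.eq_of_le B hB.inv (e ▸ inf_le_right)).symm
  have hDB : D ≠ B := fun e => hAB (hB.eq_of_le A hA.inv (e ▸ inf_le_left))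
  have hA1 := hgrow hA inf_le_left hDA
  have hB1 := hgrow hB inf_le_right hDB
  rcases hx.cover hDinv hD0 with ⟨K, hKH, hK, hKn, hKc, hKS⟩ | ⟨c, ht, hS, hW⟩
  · have hAK : A ⊓ H ≤ K := hKS _ inf_le_right (hSi hA)
    have hBK : B ⊓ H ≤ K := hKS _ inf_le_right (hSi hB)
    obtain ⟨C, hC, hKC⟩ := exists_mem_le hK (fun e => (ne_bot_of_gt hA1) (le_bot_iff.1 (e ▸ hAK)))
    have hAC : D < A ⊓ C := lt_of_lt_of_le hA1 (le_inf inf_le_left (hAK.trans hKC))
    have hBC : D < B ⊓ C := lt_of_lt_of_le hB1 (le_inf inf_le_left (hBK.trans hKC))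
    by_cases hCA : C = A
    · obtain rfl := hCA
      have := bigger hB hA hAB.symm hBC
      exact this.symm
    · by_cases hCB : C = B
      · obtain rfl := hCB
        exact bigger hA hB hAB hAC
      · exact ⟨(bigger hA hC (Ne.symm hCA) hAC).1, (bigger hB hC (Ne.symm hCB) hBC).1⟩
  · have one : ∀ {C : Subgroup G}, Mem x C → D < C ⊓ H → IsT C := by
      intro C hC hlt
      obtain ⟨W, hWH, hWi, hW2, hWc, hSW⟩ := hS _ inf_le_right (hSi hC)
      obtain ⟨N, hN, hWN⟩ := exists_mem_le hWi (fun e => (ne_bot_of_gt hlt) (le_bot_iff.1 (e ▸ hSW)))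
      by_cases hCN : C = N
      · obtain rfl := hCN
        refine ⟨?_, ?_⟩
        · haveI : Fact (Nat.Prime 2) := ⟨Nat.prime_two⟩
          by_contra hnp
          obtain ⟨q, hq, hqC, hq2⟩ : ∃ q, q.Prime ∧ q ∣ Nat.card C ∧ q ≠ 2 := by
            by_contra hall
            push Not at hall
            exact hnp (IsPGroup.of_card (n := (Nat.card C).primeFactorsList.length)
              (Nat.eq_prime_pow_of_unique_prime_dvd Nat.card_pos.ne' fun {d} hd hdvd => hall d hd hdvd))
          haveI := Fact.mk hq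
          obtain ⟨g, hg⟩ := exists_prime_orderOf_dvd_card' q hqC
          rw [← Subgroup.orderOf_coe] at hg
          have hDW : D ≤ W := le_trans (le_inf (hlt.le.trans inf_le_left) Subgroup.le_normalizer) hSW
          have hcomm : ∀ e ∈ D, (g : G) * e = e * g := fun e he => by
            refine CfsgLib.Char.commute_of_isNilpotent_subgroup (hC.inv.isNilpotent hx.hyp) g.2
              (hlt.le.trans inf_le_left he) ?_
            obtain ⟨i, hi⟩ := (IsPGroup.iff_orderOf).1 hW2 ⟨e, hDW he⟩
            rw [Subgroup.orderOf_mk] at hi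
            rw [hg, hi]
            exact ((Nat.coprime_primes hq Nat.prime_two).2 hq2).pow_right i
          have hgH : (g : G) ∈ H :=
            Subgroup.centralizer_le_normalizer _ (Subgroup.mem_centralizer_iff.2 fun e he =>
              (hcomm e he).symm)
          obtain ⟨i, hi⟩ := (IsPGroup.iff_orderOf).1 hW2 ⟨g, hSW (Subgroup.mem_inf.2 ⟨g.2, hgH⟩)⟩
          rw [Subgroup.orderOf_mk, hg] at hi
          exact hq2 ((Nat.prime_dvd_prime_iff_eq hq Nat.prime_two).1
            (hq.dvd_of_dvd_pow (dvd_of_eq hi)))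
        · rcases hx.card_normalizer hC with ⟨e, -⟩ | ⟨-, htC⟩
          · exact e
          exfalso
          obtain ⟨t, ht'⟩ := hx.hyp.exists_inverter hx.nc
          have hWeq : C ⊓ H = W := le_antisymm hSW (le_inf hWN hWH)
          refine hW W hWH hWi hWc t ht' ?_
          rw [← hWeq, Subgroup.mem_normalizer_iff]
          intro g
          rw [Subgroup.mem_inf, Subgroup.mem_inf, Subgroup.mem_normalizer_iff.1 (htC t ht') g,
            Subgroup.mem_normalizer_iff.1 (Subgroup.le_normalizer (ht t ht')) g]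
      · exact (bigger hC hN hCN (lt_of_lt_of_le hlt (le_inf inf_le_left (hSW.trans hWN)))).1
    exact ⟨one hA hA1, one hB hB1⟩

end Ctx

end CfsgLib.Recog.SelfCentThree
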