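import Cfsg.Agent.Lib.Recog.SelfCentThree.Members

/-!
Primary parts and conjugacy of the maximal invariant subgroups.
-/

set_option autoImplicit false
set_option linter.unusedSectionVars false
set_option linter.style.haveILetI false

namespace CfsgLib.Recog.SelfCentThree

open Subgroup

universe u

variable {G : Type u} [Group G] [Finite G] [IsSimpleGroup G] {x : G}

/-- A conjugate of a subgroup. -/
abbrev cnj (g : G) (M : Subgroup G) : Subgroup G := M.map (MulAut.conj g).toMonoidHom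

theorem mem_cnj {g : G} {M : Subgroup G} {a : G} : a ∈ cnj g M ↔ g⁻¹ * a * g ∈ M := by
  rw [Subgroup.mem_map_equiv, MulAut.conj_symm_apply]

theorem card_cnj (g : G) (M : Subgroup G) : Nat.card (cnj g M) = Nat.card M :=
  Subgroup.card_map_of_injective (MulAut.conj g).injective

theorem cnj_cnj (g h : G) (M : Subgroup G) : cnj g (cnj h M) = cnj (g * h) M := by
  ext a
  simp only [mem_cnj, mul_inv_rev]
  simp [mul_assoc]

theorem cnj_one (M : Subgroup G) : cnj 1 M = M := by
  ext a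
  simp [mem_cnj]

theorem cnj_eq_of_mem {g : G} {M : Subgroup G} (hg : g ∈ Subgroup.normalizer (M : Set G)) :
    cnj g M = M := by
  ext a
  rw [mem_cnj]
  have := Subgroup.mem_normalizer_iff.1 (inv_mem hg) a
  rw [inv_inv] at this
  exact this.symm

theorem mem_normalizer_of_cnj_eq {g : G} {M : Subgroup G} (hg : cnj g M = M) :
    g ∈ Subgroup.normalizer (M : Set G) := by
  rw [Subgroup.mem_normalizer_iff]
  intro a
  have := mem_cnj (g := g) (M := M) (a := g * a * g⁻¹)
  rw [hg, show g⁻¹ * (g * a * g⁻¹) * g = a by group] at this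
  exact this.symm

theorem mem_normalizer_cnj {g a : G} {M : Subgroup G} :
    a ∈ Subgroup.normalizer (cnj g M : Set G) ↔ g⁻¹ * a * g ∈ Subgroup.normalizer (M : Set G) := by
  constructor
  · intro ha
    apply mem_normalizer_of_cnj_eq
    have h1 := congrArg (cnj g⁻¹) (cnj_eq_of_mem ha)
    rw [cnj_cnj, cnj_cnj, cnj_cnj, inv_mul_cancel, cnj_one] at h1
    exact h1
  · intro ha
    apply mem_normalizer_of_cnj_eq
    have h1 := congrArg (cnj g) (cnj_eq_of_mem ha)
    rw [cnj_cnj] at h1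
    rw [cnj_cnj]
    rwa [show g * (g⁻¹ * a * g) = a * g by group] at h1

theorem orderOf_cnj (g a : G) : orderOf (g * a * g⁻¹) = orderOf a := by
  rw [← MulAut.conj_apply, MulEquiv.orderOf_eq]

theorem exists_part (M : Subgroup G) (h : Group.IsNilpotent M) {q : ℕ} (hq : q.Prime) :
    ∃ R : Subgroup G, IsPart q M R := by
  haveI := Fact.mk hq
  obtain ⟨Q⟩ : Nonempty (Sylow q M) := inferInstance
  refine ⟨(Q : Subgroup M).map M.subtype, Subgroup.map_subtype_le _, ?_, fun g hg hk => ?_⟩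
  · rw [Subgroup.card_map_of_injective M.subtype_injective, Sylow.card_eq_multiplicity]
  · haveI := h
    have hn : (Q : Subgroup M).Normal :=
      Sylow.normal_of_normalizerCondition Group.normalizerCondition_of_isNilpotent Q
    obtain ⟨k, hk⟩ := hk
    obtain ⟨T, hT⟩ := (IsPGroup.of_card (p := q) (n := k)
      (G := Subgroup.zpowers (⟨g, hg⟩ : M))
      (by rw [Nat.card_zpowers, Subgroup.orderOf_mk, hk])).exists_le_sylow
    have := Sylow.unique_of_normal Q hn
    rw [Subsingleton.elim T Q] at hT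
    exact ⟨⟨g, hg⟩, hT (Subgroup.mem_zpowers _), rfl⟩

namespace IsPart

variable {q : ℕ} {M R : Subgroup G}

theorem isPGroup (hR : IsPart q M R) : IsPGroup q R := IsPGroup.of_card hR.2.1

theorem normalizer_le (hR : IsPart q M R) (hq : q.Prime) :
    Subgroup.normalizer (M : Set G) ≤ Subgroup.normalizer (R : Set G) := by
  haveI := Fact.mk hq
  have key : ∀ g ∈ Subgroup.normalizer (M : Set G), ∀ a ∈ R, g * a * g⁻¹ ∈ R := fun g hg a ha => by
    refine hR.2.2 _ ((Subgroup.mem_normalizer_iff.1 hg a).1 (hR.1 ha)) ?_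
    obtain ⟨k, hk⟩ := (IsPGroup.iff_orderOf).1 hR.isPGroup ⟨a, ha⟩
    exact ⟨k, by rw [orderOf_cnj, ← hk, Subgroup.orderOf_mk]⟩
  intro g hg
  rw [Subgroup.mem_normalizer_iff]
  refine fun a => ⟨key g hg a, fun ha => ?_⟩
  have := key g⁻¹ (inv_mem hg) _ ha
  rwa [show g⁻¹ * (g * a * g⁻¹) * g⁻¹⁻¹ = a by group] at this

theorem inv (hR : IsPart q M R) (hq : q.Prime) (hM : Inv x M) : Inv x R :=
  ⟨hR.normalizer_le hq hM.1, fun h => hM.2 (h.trans (Subgroup.card_dvd_of_le hR.1))⟩

theorem ne_bot (hR : IsPart q M R) (hq : q.Prime) (hd : q ∣ Nat.card M) : R ≠ ⊥ := by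
  intro e
  have h1 := hR.2.1
  rw [e, Subgroup.card_bot] at h1
  have h2 := (hq.dvd_iff_one_le_factorization Nat.card_pos.ne').1 hd
  have := Nat.one_lt_pow (by omega : (Nat.card M).factorization q ≠ 0) hq.one_lt
  omega

end IsPart

namespace Ctx

variable (hx : Ctx x)
include hx

variable {M M' : Subgroup G}

/-- An invariant subgroup of the normalizer lies in the subgroup. -/
theorem le_of_inv (hM : Mem x M) {S : Subgroup G} (hS : S ≤ Subgroup.normalizer (M : Set G))
    (hSi : Inv x S) : S ≤ M := by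
  rcases hx.cover hM.inv hM.ne with ⟨K, hKH, hK, -, -, hKS⟩ | ⟨c, ht, hS', hW⟩
  · obtain rfl := hM.eq_of_le K hK (hKS M Subgroup.le_normalizer hM.inv)
    exact hKS S hS hSi
  · obtain ⟨W, hWH, hWi, -, hWc, hMW⟩ := hS' M Subgroup.le_normalizer hM.inv
    obtain rfl := hM.eq_of_le W hWi hMW
    obtain ⟨t, ht'⟩ := hx.hyp.exists_inverter hx.nc
    exact absurd (ht t ht') (hW W hWH hWi hWc t ht')

theorem normalizer_part (hM : Mem x M) {q : ℕ} (hq : q.Prime) {R : Subgroup G} (hR : IsPart q M R)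
    (hd : q ∣ Nat.card M) : Subgroup.normalizer (R : Set G) = Subgroup.normalizer (M : Set G) := by
  refine le_antisymm ?_ (hR.normalizer_le hq)
  have hMH : M ≤ Subgroup.normalizer (R : Set G) := Subgroup.le_normalizer.trans (hR.normalizer_le hq)
  rcases hx.cover (hR.inv hq hM.inv) (hR.ne_bot hq hd) with
    ⟨K, hKH, hK, hKn, -, hKS⟩ | ⟨c, ht, hS', hW⟩
  · obtain rfl := hM.eq_of_le K hK (hKS M hMH hM.inv)
    exact hKn
  · obtain ⟨W, hWH, hWi, hW2, hWc, hMW⟩ := hS' M hMH hM.inv
    obtain rfl := hM.eq_of_le W hWi hMW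
    haveI := Fact.mk hq
    have hWR : W ≤ R := fun g hg => hR.2.2 g hg (by
      haveI : Fact (Nat.Prime 2) := ⟨Nat.prime_two⟩
      obtain ⟨i, hi⟩ := (IsPGroup.iff_orderOf).1 hW2 ⟨g, hg⟩
      rw [Subgroup.orderOf_mk] at hi
      obtain ⟨j, hj⟩ := IsPGroup.iff_card.1 hW2
      have := hq.dvd_of_dvd_pow (hj ▸ hd)
      rw [(Nat.prime_dvd_prime_iff_eq hq Nat.prime_two).1 this]
      exact ⟨i, hi⟩)
    rw [le_antisymm hR.1 hWR]

/-- Two members containing parts with conjugate normalizers are conjugate. -/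
theorem eq_cnj_of_normalizer (hM : Mem x M) (hM' : Mem x M') {g : G}
    (he : Subgroup.normalizer (M' : Set G) = Subgroup.normalizer (cnj g M : Set G)) :
    M' = cnj g M := by
  have h3 : ¬ 3 ∣ Nat.card (cnj g M) := by rw [card_cnj]; exact hM.inv.2
  have h1 : cnj g M ≤ M' := hx.le_of_inv hM' (he ▸ Subgroup.le_normalizer)
    ⟨he ▸ hM'.inv.1, h3⟩
  refine le_antisymm ?_ h1
  have h2 : cnj g⁻¹ M' ≤ M := by
    refine hx.le_of_inv hM (fun a ha => ?_) ⟨?_, by rw [card_cnj]; exact hM'.inv.2⟩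
    · have := Subgroup.le_normalizer (mem_cnj.1 ha)
      rw [he, mem_normalizer_cnj] at this
      simpa [mul_assoc] using this
    · rw [mem_normalizer_cnj, inv_inv, he, mem_normalizer_cnj]
      simpa [mul_assoc] using hM.inv.1
  intro a ha
  rw [mem_cnj]
  exact h2 (mem_cnj.2 (by simpa [mul_assoc] using ha))

/-- A conjugate member is the subgroup itself or its image under an inverting element. -/
theorem cnj_cases (hM : Mem x M) (hM' : Mem x M') {g : G} (he : M' = cnj g M) {t : G}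
    (ht : IsInverter x t) : M' = M ∨ M' = cnj t M := by
  haveI : Fact (Nat.Prime 3) := ⟨Nat.prime_three⟩
  set H := Subgroup.normalizer (M : Set G)
  set y := g⁻¹ * x * g with hy
  have hyH : y ∈ H := mem_normalizer_cnj.1 (he ▸ hM'.inv.1)
  have hxH : x ∈ H := hM.inv.1
  obtain ⟨P, hP⟩ := CfsgLib.Block.SelfCentralPrime.exists_sylow_eq (hx.hyp.subtype hxH).ord
    (hx.hyp.subtype hxH).cent
  have hyo : orderOf (⟨y, hyH⟩ : H) = 3 := by
    have := orderOf_cnj g⁻¹ x
    rw [inv_inv] at this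
    rw [Subgroup.orderOf_mk, hy, this, hx.hyp.ord]
  obtain ⟨Q, hQ⟩ := (IsPGroup.of_card (n := 1) (G := Subgroup.zpowers (⟨y, hyH⟩ : H))
    (by rw [Nat.card_zpowers, hyo, pow_one])).exists_le_sylow
  obtain ⟨n, hn⟩ := MulAction.exists_smul_eq H Q P
  have hm : n * ⟨y, hyH⟩ * n⁻¹ ∈ Subgroup.zpowers (⟨x, hxH⟩ : H) := by
    rw [← hP, ← hn, Sylow.coe_subgroup_smul, ← MulAut.conj_apply]
    exact Subgroup.smul_mem_pointwise_smul _ _ (Q : Subgroup H) (hQ (Subgroup.mem_zpowers _))
  obtain ⟨k, hk⟩ := Subgroup.mem_zpowers_iff.1 hm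
  have hk' : x ^ k = ((n : G) * g⁻¹) * x * ((n : G) * g⁻¹)⁻¹ := by
    have := congrArg Subtype.val hk
    simp only [SubgroupClass.coe_zpow, Subgroup.coe_mul, InvMemClass.coe_inv] at this
    rw [this, hy]
    group
  have hM'' : M' = cnj ((n : G) * g⁻¹)⁻¹ M := by
    rw [mul_inv_rev, inv_inv, ← cnj_cnj, cnj_eq_of_mem (inv_mem n.2), he]
  rcases hx.hyp.conj_cases (g := (n : G) * g⁻¹) (hk' ▸ zpow_mem (Subgroup.mem_zpowers x) k) with e | e
  · left
    rw [hM'', cnj_eq_of_mem (inv_mem (Subgroup.zpowers_le.2 hxH e))]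
  · right
    have hs := hx.hyp.inverter_of_conj e
    rw [hM'', hs.inv_eq]
    have h1 := Subgroup.zpowers_le.2 hxH (ht.mul_mem_zpowers hx.hyp hs.2)
    have h2 := cnj_eq_of_mem h1
    rw [← cnj_cnj] at h2
    have h3 := congrArg (cnj t) h2
    rwa [cnj_cnj t t, ht.1, cnj_one] at h3

theorem mem_cnj_inverter (hM : Mem x M) {t : G} (ht : IsInverter x t) : Mem x (cnj t M) := by
  refine ⟨hM.inv.conj_inverter ht, fun e => hM.ne (Subgroup.card_eq_one.1 ?_), fun S hS hle => ?_⟩
  · rw [← card_cnj t, e, Subgroup.card_bot]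
  · have h1 : M ≤ cnj t S := by
      intro a ha
      rw [mem_cnj]
      refine hle (mem_cnj.2 ?_)
      rw [show t⁻¹ * (t⁻¹ * a * t) * t = (t * t)⁻¹ * a * (t * t) by group, ht.1]
      simpa using ha
    have h2 := congrArg (cnj t) (hM.eq_of_le _ (hS.conj_inverter ht) h1)
    rwa [cnj_cnj, ht.1, cnj_one] at h2

/-- For an odd prime, or when the index over the subgroup is three, the part is a Sylow subgroup. -/
theorem part_full (hM : Mem x M) {q : ℕ} (hq : q.Prime) {R : Subgroup G} (hR : IsPart q M R)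
    (hd : q ∣ Nat.card M)
    (hcase : q ≠ 2 ∨ Nat.card ↥(Subgroup.normalizer (M : Set G)) = 3 * Nat.card M) :
    (Nat.card M).factorization q = (Nat.card G).factorization q := by
  haveI := Fact.mk hq
  have hq3 : q ≠ 3 := fun e => hM.inv.2 (e ▸ hd)
  refine le_antisymm ((Nat.factorization_le_iff_dvd Nat.card_pos.ne' Nat.card_pos.ne').2
    (Subgroup.card_subgroup_dvd_card M) q) (not_lt.1 fun hlt => ?_)
  obtain ⟨P, hP⟩ := hR.isPGroup.exists_le_sylow
  have hne : R ≠ (P : Subgroup G) := fun e => by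
    have h1 := P.card_eq_multiplicity
    rw [← e, hR.2.1] at h1
    have := Nat.pow_right_injective hq.two_le h1
    omega
  haveI := P.2.isNilpotent
  have h1 : R.subgroupOf (P : Subgroup G) < ⊤ := lt_top_iff_ne_top.2 fun e' => by
    rw [Subgroup.subgroupOf_eq_top] at e'
    exact hne (le_antisymm hP e')
  obtain ⟨g, hg, hgR⟩ := SetLike.exists_of_lt
    (Group.normalizerCondition_of_isNilpotent (G := (P : Subgroup G)) _ h1)
  have hgN : (g : G) ∈ Subgroup.normalizer (R : Set G) := by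
    rw [Subgroup.mem_normalizer_iff]
    intro d
    constructor
    · intro hd'
      exact (Subgroup.mem_normalizer_iff.1 hg ⟨d, hP hd'⟩).1 (Subgroup.mem_subgroupOf.2 hd')
    · intro hd'
      have hdP : d ∈ (P : Subgroup G) := by
        have := mul_mem (mul_mem (inv_mem g.2) (hP hd')) g.2
        simpa [mul_assoc] using this
      exact Subgroup.mem_subgroupOf.1 ((Subgroup.mem_normalizer_iff.1 hg ⟨d, hdP⟩).2
        (Subgroup.mem_subgroupOf.2 hd'))
  set B := (P : Subgroup G) ⊓ Subgroup.normalizer (R : Set G)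
  have hRB : R < B := by
    refine lt_of_le_of_ne (le_inf hP Subgroup.le_normalizer) fun e => hgR (Subgroup.mem_subgroupOf.2 ?_)
    rw [e]
    exact Subgroup.mem_inf.2 ⟨g.2, hgN⟩
  obtain ⟨j, hj⟩ := IsPGroup.iff_card.1 (P.2.to_le inf_le_left : IsPGroup q B)
  have hBN : Nat.card B ∣ Nat.card ↥(Subgroup.normalizer (M : Set G)) := by
    rw [← hx.normalizer_part hM hq hR hd]
    exact Subgroup.card_dvd_of_le inf_le_right
  have hjlt : (Nat.card M).factorization q < j := by
    have h2 : Nat.card R < Nat.card B := lt_of_le_of_ne (Subgroup.card_le_of_le hRB.le) fun e =>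
      hRB.ne (Subgroup.eq_of_le_of_card_ge hRB.le e.ge)
    rw [hR.2.1, hj] at h2
    exact (Nat.pow_lt_pow_iff_right hq.one_lt).1 h2
  rw [hj] at hBN
  have hdvdM : q ^ j ∣ Nat.card M := by
    rcases hcase with h2 | h2
    · rcases hx.card_normalizer hM with ⟨e, -⟩ | ⟨e, -⟩ <;> rw [e] at hBN
      · exact (((Nat.coprime_primes hq Nat.prime_three).2 hq3).pow_left j).dvd_of_dvd_mul_left hBN
      · refine Nat.Coprime.dvd_of_dvd_mul_left ?_ hBN
        rw [show (6 : ℕ) = 2 * 3 from rfl]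
        exact Nat.Coprime.mul_right (((Nat.coprime_primes hq Nat.prime_two).2 h2).pow_left j)
          (((Nat.coprime_primes hq Nat.prime_three).2 hq3).pow_left j)
    · rw [h2] at hBN
      exact (((Nat.coprime_primes hq Nat.prime_three).2 hq3).pow_left j).dvd_of_dvd_mul_left hBN
  have := (hq.pow_dvd_iff_le_factorization Nat.card_pos.ne').1 hdvdM
  omega

/-- Members sharing such a prime are conjugate. -/
theorem exists_cnj_of_part (hM : Mem x M) (hM' : Mem x M') {q : ℕ} (hq : q.Prime)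
    (hd : q ∣ Nat.card M) (hd' : q ∣ Nat.card M')
    (hcase : q ≠ 2 ∨ (Nat.card ↥(Subgroup.normalizer (M : Set G)) = 3 * Nat.card M ∧
      Nat.card ↥(Subgroup.normalizer (M' : Set G)) = 3 * Nat.card M')) :
    ∃ g : G, M' = cnj g M := by
  haveI := Fact.mk hq
  obtain ⟨R, hR⟩ := exists_part M (hM.inv.isNilpotent hx.hyp) hq
  obtain ⟨R', hR'⟩ := exists_part M' (hM'.inv.isNilpotent hx.hyp) hq
  have e1 := hx.part_full hM hq hR hd (hcase.imp id And.left)
  have e2 := hx.part_full hM' hq hR' hd' (hcase.imp id And.right)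
  obtain ⟨g, hg⟩ := MulAction.exists_smul_eq G
    (Sylow.ofCard R (by rw [hR.2.1, e1]) : Sylow q G) (Sylow.ofCard R' (by rw [hR'.2.1, e2]))
  have hRR : R' = cnj g R := by
    have := congrArg (fun S : Sylow q G => (S : Subgroup G)) hg
    simp only [Sylow.coe_subgroup_smul, Sylow.coe_ofCard] at this
    exact this.symm
  refine ⟨g, hx.eq_cnj_of_normalizer hM hM' ?_⟩
  rw [← hx.normalizer_part hM' hq hR' hd', hRR]
  ext a
  rw [mem_normalizer_cnj, mem_normalizer_cnj, hx.normalizer_part hM hq hR hd]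

end Ctx

end CfsgLib.Recog.SelfCentThree
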