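import Cfsg.Agent.Lib.Recog.SelfCentThree.Parts
import Cfsg.Agent.Lib.Recog.SelfCentThree.Chars

/-!
The maximal invariant subgroups cover the pairs of conjugates splitting `x`.
-/

set_option autoImplicit false
set_option linter.unusedSectionVars false
set_option linter.style.haveILetI false

namespace CfsgLib.Recog.SelfCentThree

open Subgroup

universe u

variable {G : Type u} [Group G] [Finite G] {x : G}

theorem Hyp.inv (h : Hyp x) : Hyp x⁻¹ := by
  refine ⟨by rw [orderOf_inv]; exact h.ord, ?_⟩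
  have hx1 : x⁻¹ ≠ 1 := inv_ne_one.2 h.ne_one
  have := Fintype.ofFinite G
  rw [centralizer_eq_of_mem h x⁻¹ (inv_mem (Subgroup.mem_zpowers x)) hx1, Subgroup.zpowers_inv]

/-- The two relations give commuting conjugates with product one. -/
theorem Hyp.rel (h : Hyp x) {a : G} (h1 : a * x * (a * x) * (a * x) = 1)
    (h2 : a * x⁻¹ * (a * x⁻¹) * (a * x⁻¹) = 1) :
    Commute a (x * a * x⁻¹) ∧ a * (x * a * x⁻¹) * (x⁻¹ * a * x) = 1 ∧
      x * (x * a * x⁻¹) * x⁻¹ = x⁻¹ * a * x := by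
  have hc : x * (x * a * x⁻¹) * x⁻¹ = x⁻¹ * a * x := by
    calc x * (x * a * x⁻¹) * x⁻¹ = (x * x * x) * (x⁻¹ * a * x) * (x * x * x)⁻¹ := by group
      _ = x⁻¹ * a * x := by rw [h.pow_three]; group
  have hb : x * a * x⁻¹ = x⁻¹ * (x⁻¹ * a * x) * x := by
    calc x * a * x⁻¹ = (x * x * x) * (x⁻¹ * (x⁻¹ * a * x) * x) * (x * x * x)⁻¹ := by group
      _ = x⁻¹ * (x⁻¹ * a * x) * x := by rw [h.pow_three]; group
  have e1 : a * (x * a * x⁻¹) * (x⁻¹ * a * x) = 1 := by
    rw [← hc]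
    calc a * (x * a * x⁻¹) * (x * (x * a * x⁻¹) * x⁻¹)
        = a * x * (a * x) * (a * x) * (x * x * x)⁻¹ := by group
      _ = 1 := by rw [h1, h.pow_three]; group
  have e2 : a * (x⁻¹ * a * x) * (x * a * x⁻¹) = 1 := by
    rw [hb]
    calc a * (x⁻¹ * a * x) * (x⁻¹ * (x⁻¹ * a * x) * x)
        = a * x⁻¹ * (a * x⁻¹) * (a * x⁻¹) * (x * x * x) := by group
      _ = 1 := by rw [h2, h.pow_three]; group
  refine ⟨?_, e1, hc⟩
  obtain ⟨b, hbd⟩ : ∃ b, b = x * a * x⁻¹ := ⟨_, rfl⟩
  obtain ⟨c, hcd⟩ : ∃ c, c = x⁻¹ * a * x := ⟨_, rfl⟩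
  rw [← hbd, ← hcd] at e1 e2
  rw [← hbd]
  have ec : c = (a * b)⁻¹ := eq_inv_of_mul_eq_one_right e1
  have eb : b = (a * c)⁻¹ := eq_inv_of_mul_eq_one_right e2
  rw [ec, mul_inv_rev, inv_inv] at eb
  show a * b = b * a
  calc a * b = a * b * a⁻¹ * a := by group
    _ = b * a := by rw [← eb]

namespace Inv

variable {M : Subgroup G}

/-- Multiplying `x` by an element of an invariant subgroup keeps the order three. -/
theorem mul_cube (hM : Inv x M) (h : Hyp x) {a : G} (ha : a ∈ M) :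
    a * x * (a * x) * (a * x) = 1 ∧ a * x⁻¹ * (a * x⁻¹) * (a * x⁻¹) = 1 := by
  have key : ∀ y ∈ Subgroup.normalizer (M : Set G), Hyp y → a * y * (a * y) * (a * y) = 1 := by
    intro y hy hY
    let f : M → M := fun s => ⟨(s : G) * y * (s : G)⁻¹ * y⁻¹, by
      rw [mul_assoc, mul_assoc]
      exact mul_mem s.2 (by
        rw [← mul_assoc]
        exact (Subgroup.mem_normalizer_iff.1 hy _).1 (inv_mem s.2))⟩
    have hf : Function.Injective f := by
      intro s r e
      have e' : (s : G) * y * (s : G)⁻¹ = r * y * (r : G)⁻¹ :=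
        mul_right_cancel (congrArg Subtype.val e)
      have hc : (r : G)⁻¹ * s * y = y * ((r : G)⁻¹ * s) := by
        calc (r : G)⁻¹ * s * y = (r : G)⁻¹ * (s * y * (s : G)⁻¹) * s := by group
          _ = y * ((r : G)⁻¹ * s) := by rw [e']; group
      exact (Subtype.ext (inv_mul_eq_one.1
        (hY.eq_one_of_commute hM.2 (mul_mem (inv_mem r.2) s.2) hc))).symm
    obtain ⟨s, hs⟩ := Finite.surjective_of_injective hf ⟨a, ha⟩
    have e : a * y = (s : G) * y * (s : G)⁻¹ := by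
      rw [show a = (s : G) * y * (s : G)⁻¹ * y⁻¹ from (congrArg Subtype.val hs).symm,
        inv_mul_cancel_right]
    rw [e]
    calc (s : G) * y * (s : G)⁻¹ * ((s : G) * y * (s : G)⁻¹) * ((s : G) * y * (s : G)⁻¹)
        = (s : G) * (y * y * y) * (s : G)⁻¹ := by group
      _ = 1 := by rw [hY.pow_three, mul_one, mul_inv_cancel]
  exact ⟨key x hM.1 h, key x⁻¹ (inv_mem hM.1) h.inv⟩

/-- The order is the square of the number of fixed points of an inverting element. -/
theorem card_eq_sq (hM : Inv x M) (h : Hyp x) {t : G} (ht : IsInverter x t)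
    (htN : t ∈ Subgroup.normalizer (M : Set G)) :
    Nat.card M = Nat.card ↥(M ⊓ Subgroup.centralizer ({t} : Set G)) ^ 2 := by
  classical
  set C := M ⊓ Subgroup.centralizer ({t} : Set G)
  have hti := ht.inv_eq
  have hC : ∀ {a : G}, a ∈ C ↔ a ∈ M ∧ t * a * t⁻¹ = a := by
    intro a
    rw [Subgroup.mem_inf, Subgroup.mem_centralizer_singleton_iff, mul_inv_eq_iff_eq_mul]
    exact and_congr_right fun _ => eq_comm
  have hxm : ∀ {a : G}, a ∈ M → x * a * x⁻¹ ∈ M := fun ha =>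
    (Subgroup.mem_normalizer_iff.1 hM.1 _).1 ha
  have htm : ∀ {a : G}, a ∈ M → t * a * t⁻¹ ∈ M := fun ha =>
    (Subgroup.mem_normalizer_iff.1 htN _).1 ha
  apply le_antisymm
  · -- the elements inverted by `t` inject into the fixed points
    let I := {u : M // t * (u : G) * t⁻¹ = (u : G)⁻¹}
    let F : I → C := fun u => ⟨(u.1 : G) * (x * u.1 * x⁻¹) * (x * u.1 * x⁻¹), hC.2
      ⟨mul_mem (mul_mem u.1.2 (hxm u.1.2)) (hxm u.1.2), by
        obtain ⟨hab, habc, -⟩ := h.rel (hM.mul_cube h u.1.2).1 (hM.mul_cube h u.1.2).2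
        obtain ⟨a, hau⟩ : ∃ a, a = (u.1 : G) := ⟨_, rfl⟩
        have hu := u.2
        rw [← hau] at hab habc hu ⊢
        have hb : t * (x * a * x⁻¹) * t⁻¹ = (x⁻¹ * a * x)⁻¹ := by
          calc t * (x * a * x⁻¹) * t⁻¹ = (t * x * t⁻¹) * (t * a * t⁻¹) * (t * x * t⁻¹)⁻¹ := by group
            _ = (x⁻¹ * a * x)⁻¹ := by rw [ht.2, hu]; group
        have hc : (x⁻¹ * a * x)⁻¹ = a * (x * a * x⁻¹) :=
          inv_eq_of_mul_eq_one_left habc
        calc t * (a * (x * a * x⁻¹) * (x * a * x⁻¹)) * t⁻¹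
            = (t * a * t⁻¹) * (t * (x * a * x⁻¹) * t⁻¹) * (t * (x * a * x⁻¹) * t⁻¹) := by group
          _ = a⁻¹ * (a * (x * a * x⁻¹)) * (a * (x * a * x⁻¹)) := by rw [hb, hc, hu]
          _ = (x * a * x⁻¹ * a) * (x * a * x⁻¹) := by group
          _ = a * (x * a * x⁻¹) * (x * a * x⁻¹) := by rw [← hab.eq]⟩⟩
    have hF : Function.Injective F := by
      have cube : ∀ {a : G}, a ∈ M →
          a * (x * a * x⁻¹) * (x * a * x⁻¹) * (x * (a * (x * a * x⁻¹) * (x * a * x⁻¹)) * x⁻¹) *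
            (x * (a * (x * a * x⁻¹) * (x * a * x⁻¹)) * x⁻¹) = (a ^ 3)⁻¹ := by
        intro a ha
        obtain ⟨hab, habc, hcc⟩ := h.rel (hM.mul_cube h ha).1 (hM.mul_cube h ha).2
        have hc : x⁻¹ * a * x = (a * (x * a * x⁻¹))⁻¹ := eq_inv_of_mul_eq_one_right habc
        obtain ⟨b, hbd⟩ : ∃ b, b = x * a * x⁻¹ := ⟨_, rfl⟩
        rw [← hbd] at hab hc hcc ⊢
        have hy : x * (a * b * b) * x⁻¹ = a⁻¹ * a⁻¹ * b⁻¹ := by
          calc x * (a * b * b) * x⁻¹ = (x * a * x⁻¹) * (x * b * x⁻¹) * (x * b * x⁻¹) := by group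
            _ = b * (b⁻¹ * a⁻¹) * (b⁻¹ * a⁻¹) := by rw [← hbd, hcc, hc, mul_inv_rev]
            _ = a⁻¹ * (b⁻¹ * a⁻¹) := by group
            _ = a⁻¹ * a⁻¹ * b⁻¹ := by rw [hab.inv_inv.eq.symm, mul_assoc]
        rw [hy]
        have h2 : Commute b⁻¹ (a⁻¹ * a⁻¹) :=
          (hab.inv_inv.symm).mul_right hab.inv_inv.symm
        calc a * b * b * (a⁻¹ * a⁻¹ * b⁻¹) * (a⁻¹ * a⁻¹ * b⁻¹)
            = a * b * b * (a⁻¹ * a⁻¹) * (b⁻¹ * (a⁻¹ * a⁻¹)) * b⁻¹ := by group
          _ = a * (b * b * (a⁻¹ * a⁻¹ * (a⁻¹ * a⁻¹))) * b⁻¹ * b⁻¹ := by rw [h2.eq]; group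
          _ = a * (a⁻¹ * a⁻¹ * (a⁻¹ * a⁻¹) * (b * b)) * b⁻¹ * b⁻¹ := by
            have h3 : Commute b a⁻¹ := hab.symm.inv_right
            rw [((h3.mul_right h3).mul_right (h3.mul_right h3)).mul_left
              ((h3.mul_right h3).mul_right (h3.mul_right h3)) |>.eq]
          _ = (a ^ 3)⁻¹ := by group
      intro u v e
      have e' := congrArg (fun z : C => (z : G) * (x * z * x⁻¹) * (x * z * x⁻¹)) e
      simp only [F, cube u.1.2, cube v.1.2, inv_inj] at e'
      have hcop : (Nat.card M).Coprime 3 := ((Nat.prime_three.coprime_iff_not_dvd).2 hM.2).symm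
      exact Subtype.ext ((powCoprime hcop).injective (Subtype.ext e'))
    -- sort the elements by what `t` does to them
    let q : M → I := fun m => ⟨⟨(m : G)⁻¹ * (t * m * t⁻¹), mul_mem (inv_mem m.2) (htm m.2)⟩, by
      calc t * ((m : G)⁻¹ * (t * m * t⁻¹)) * t⁻¹
          = t * (m : G)⁻¹ * t⁻¹ * ((t * t) * m * (t * t)⁻¹) := by group
        _ = ((m : G)⁻¹ * (t * m * t⁻¹))⁻¹ := by rw [ht.1]; group⟩
    let r : M → M := fun m => Function.invFun q (q m)
    have hr : ∀ m, q (r m) = q m := fun m => Function.invFun_eq ⟨m, rfl⟩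
    let K : M → I × C := fun m => (q m, ⟨(m : G) * (r m : G)⁻¹, hC.2
      ⟨mul_mem m.2 (inv_mem (r m).2), by
        have e : (r m : G)⁻¹ * (t * r m * t⁻¹) = (m : G)⁻¹ * (t * m * t⁻¹) :=
          congrArg (fun z : I => (z.1 : G)) (hr m)
        calc t * ((m : G) * (r m : G)⁻¹) * t⁻¹
            = (m : G) * ((m : G)⁻¹ * (t * m * t⁻¹)) * ((r m : G)⁻¹ * (t * r m * t⁻¹))⁻¹ *
              (r m : G)⁻¹ := by group
          _ = (m : G) * (r m : G)⁻¹ := by rw [e]; group⟩⟩)
    have hK : Function.Injective K := by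
      intro m m' e
      have e1 : q m = q m' := congrArg Prod.fst e
      have e2 : (m : G) * (r m : G)⁻¹ = (m' : G) * (r m' : G)⁻¹ :=
        congrArg (fun z : I × C => (z.2 : G)) e
      rw [show r m = r m' from congrArg (Function.invFun q) e1] at e2
      exact Subtype.ext (mul_right_cancel e2)
    rw [sq]
    calc Nat.card M ≤ Nat.card (I × C) := Nat.card_le_card_of_injective K hK
      _ ≤ Nat.card C * Nat.card C := by
        rw [Nat.card_prod]
        exact Nat.mul_le_mul_right _ (Nat.card_le_card_of_injective F hF)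
  · rw [sq, ← Nat.card_prod]
    refine Nat.card_le_card_of_injective (fun z : C × C =>
      (⟨(z.1 : G) * (x * z.2 * x⁻¹), mul_mem (hC.1 z.1.2).1 (hxm (hC.1 z.2.2).1)⟩ : M)) ?_
    rintro ⟨p, q⟩ ⟨p', q'⟩ e
    have e' : (p : G) * (x * q * x⁻¹) = p' * (x * q' * x⁻¹) := congrArg Subtype.val e
    obtain ⟨f, hf⟩ : ∃ f, f = (q' : G) * (q : G)⁻¹ := ⟨_, rfl⟩
    have hfC : f ∈ C := hf ▸ mul_mem q'.2 (inv_mem q.2)
    have h1 : (p' : G)⁻¹ * p = x * f * x⁻¹ := by
      calc (p' : G)⁻¹ * p = (p' : G)⁻¹ * (p * (x * q * x⁻¹)) * (x * q * x⁻¹)⁻¹ := by group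
        _ = x * f * x⁻¹ := by rw [e', hf]; group
    have h2 : t * (x * f * x⁻¹) * t⁻¹ = x * f * x⁻¹ :=
      (hC.1 (h1 ▸ mul_mem (inv_mem p'.2) p.2)).2
    have h3 : x⁻¹ * f * x = x * f * x⁻¹ := by
      rw [← h2]
      calc x⁻¹ * f * x = (t * x * t⁻¹) * (t * f * t⁻¹) * (t * x * t⁻¹)⁻¹ := by
            rw [(hC.1 hfC).2, ht.2, inv_inv]
        _ = _ := by group
    have h4 : f * x⁻¹ = x⁻¹ * f := by
      calc f * x⁻¹ = f * (x * x) := by rw [h.inv_eq]
        _ = x * (x⁻¹ * f * x) * x := by group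
        _ = x * x * f := by rw [h3]; group
        _ = x⁻¹ * f := by rw [h.inv_eq]
    have h5 : f = 1 := h.inv.eq_one_of_commute hM.2 (hC.1 hfC).1 h4
    have h6 : q = q' := Subtype.ext (by rw [hf, mul_inv_eq_one] at h5; exact h5.symm)
    subst h6
    rw [Prod.mk.injEq]
    exact ⟨Subtype.ext (mul_right_cancel e'), rfl⟩

end Inv

/-- The elements other than one of a subgroup. -/
noncomputable def nonOne [Fintype G] (S : Subgroup G) : Finset G :=
  @Finset.erase _ (Classical.decEq G)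
    (@Finset.filter _ (fun g => g ∈ S) (fun _ => Classical.propDecidable _) Finset.univ) 1

theorem card_nonOne [Fintype G] (S : Subgroup G) : (nonOne S).card = Nat.card S - 1 := by
  classical
  rw [nonOne, Finset.card_erase_of_mem (by simp), Nat.card_eq_fintype_card, Fintype.card_subtype]

/-- Subgroups meeting trivially inside a subgroup. -/
theorem sum_card_sub_one_le {ι : Type*} (s : Finset ι) (f : ι → Subgroup G) (K : Subgroup G)
    (hK : ∀ i ∈ s, f i ≤ K) (hd : ∀ i ∈ s, ∀ j ∈ s, i ≠ j → f i ⊓ f j = ⊥) :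
    ∑ i ∈ s, (Nat.card (f i) - 1) ≤ Nat.card K - 1 := by
  classical
  have := Fintype.ofFinite G
  simp only [← card_nonOne]
  rw [← Finset.card_biUnion]
  · refine Finset.card_le_card fun g hg => ?_
    obtain ⟨i, hi, hg⟩ := Finset.mem_biUnion.1 hg
    simp only [nonOne, Finset.mem_erase, Finset.mem_filter, Finset.mem_univ, true_and] at hg ⊢
    exact ⟨hg.1, hK i hi hg.2⟩
  · intro i hi j hj hij
    refine Finset.disjoint_left.2 fun g hg hg' => ?_
    simp only [nonOne, Finset.mem_erase, Finset.mem_filter, Finset.mem_univ, true_and] at hg hg'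
    exact hg.1 (Subgroup.mem_bot.1 (hd i hi j hj hij ▸ Subgroup.mem_inf.2 ⟨hg.2, hg'.2⟩))

section Simple

variable [IsSimpleGroup G]

/-- The maximal invariant subgroups, as a finite set. -/
noncomputable def mems (x : G) : Finset (Subgroup G) := (Set.toFinite {M | Mem x M}).toFinset

theorem mem_mems {M : Subgroup G} : M ∈ mems x ↔ Mem x M := Set.Finite.mem_toFinset _

namespace Ctx

variable (hx : Ctx x)
include hx

/-- The order of the group is bounded by the elements of the maximal invariant subgroups. -/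
theorem lt_nine_mul : Nat.card G < 9 * (1 + ∑ M ∈ mems x, (Nat.card M - 1)) := by
  classical
  have := Fintype.ofFinite G
  have h := hx.hyp
  obtain ⟨t, ht⟩ := h.exists_inverter hx.nc
  obtain ⟨φ, ψ, d, D⟩ := exists_charData h ht
  refine lt_of_lt_of_le (D.lt_nine_mul_pairs h ht) (Nat.mul_le_mul_left 9 ?_)
  rw [← Finset.card_map ⟨fun v => v * x, mul_left_injective x⟩]
  refine (Finset.card_le_card (t := insert 1 ((mems x).biUnion nonOne)) fun a ha => ?_).trans
    ((Finset.card_insert_le _ _).trans ?_)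
  · obtain ⟨v, hv, rfl⟩ := Finset.mem_map.1 ha
    obtain ⟨hv1, hv2⟩ := (Finset.mem_filter.1 hv).2
    show v * x ∈ _
    have hcube : ∀ {u : G}, IsConj x u → u * u * u = 1 := fun hu => by
      obtain ⟨g, hg⟩ := isConj_iff.1 hu
      rw [← hg, show g * x * g⁻¹ * (g * x * g⁻¹) * (g * x * g⁻¹) = g * (x * x * x) * g⁻¹ by group,
        h.pow_three]
      group
    rcases eq_or_ne (v * x) 1 with e | hne
    · rw [e]; exact Finset.mem_insert_self _ _
    refine Finset.mem_insert_of_mem ?_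
    obtain ⟨a, had⟩ : ∃ a, a = v * x := ⟨_, rfl⟩
    rw [← had] at hne ⊢
    have hva : v = a * x⁻¹ := by rw [had, mul_inv_cancel_right]
    have c2 : a * x⁻¹ * (a * x⁻¹) * (a * x⁻¹) = 1 := hva ▸ hcube hv1
    have c1 : a * x * (a * x) * (a * x) = 1 := by
      have c := hcube hv2
      have hax : a * x = v * x⁻¹ := by rw [had, mul_assoc, h.inv_eq]
      rw [hax]
      calc v * x⁻¹ * (v * x⁻¹) * (v * x⁻¹)
          = v * ((v⁻¹ * x) * (v⁻¹ * x) * (v⁻¹ * x))⁻¹ * v⁻¹ := by group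
        _ = 1 := by rw [c]; group
    obtain ⟨hab, habc, hcc⟩ := h.rel c1 c2
    set A := Subgroup.closure ({a, x * a * x⁻¹} : Set G)
    have haA : a ∈ A := Subgroup.subset_closure (by simp)
    have hbA : x * a * x⁻¹ ∈ A := Subgroup.subset_closure (by simp)
    haveI hAc : IsMulCommutative A := Subgroup.isMulCommutative_closure (by
      intro p hp q hq
      simp only [Set.mem_insert_iff, Set.mem_singleton_iff] at hp hq
      rcases hp with rfl | rfl <;> rcases hq with rfl | rfl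
      · rfl
      · exact hab.eq
      · exact hab.eq.symm
      · rfl)
    have hxA : x ∈ Subgroup.normalizer (A : Set G) := by
      refine mem_normalizer_of_cnj_eq (Subgroup.eq_of_le_of_card_ge ?_ (card_cnj _ _).ge)
      rw [cnj, MonoidHom.map_closure, Subgroup.closure_le]
      rintro _ ⟨p, hp, rfl⟩
      simp only [Set.mem_insert_iff, Set.mem_singleton_iff] at hp
      rcases hp with rfl | rfl
      · exact hbA
      · show x * (x * a * x⁻¹) * x⁻¹ ∈ A
        rw [hcc, eq_inv_of_mul_eq_one_right habc]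
        exact inv_mem (mul_mem haA hbA)
    have hA3 : ¬ 3 ∣ Nat.card A := by
      intro hd
      haveI : Fact (Nat.Prime 3) := ⟨Nat.prime_three⟩
      have hH := h.subtype hxA
      have hxA' : (⟨x, hxA⟩ : Subgroup.normalizer (A : Set G)) ∈ A.subgroupOf _ := by
        refine CfsgLib.Block.SelfCentralPrime.mem_of_dvd_card hH.ord hH.cent _ ?_
        rwa [Nat.card_congr (Subgroup.subgroupOfEquivOfLe Subgroup.le_normalizer).toEquiv]
      have hxA'' : x ∈ A := Subgroup.mem_subgroupOf.1 hxA'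
      have hcomm : a * x = x * a := congrArg Subtype.val (mul_comm' (⟨a, haA⟩ : A) ⟨x, hxA''⟩)
      rcases h.mem_zpowers_cases (h.mem_of_commute hcomm) with e | e | e
      · exact hne e
      · rw [hva, e, mul_inv_cancel] at hv1
        exact h.ne_one (isConj_one_left.1 hv1)
      · have e' : v = x := by
          rw [hva, e, h.inv_eq, ← mul_assoc, h.pow_three, one_mul]
        rw [e', inv_mul_cancel] at hv2
        exact h.ne_one (isConj_one_left.1 hv2)
    obtain ⟨M, hM, hAM⟩ := exists_mem_le (x := x) ⟨hxA, hA3⟩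
      (fun e => hne (Subgroup.mem_bot.1 (e ▸ haA)))
    exact Finset.mem_biUnion.2 ⟨M, mem_mems.2 hM, by
      simp [nonOne, hne, hAM haA]⟩
  · rw [add_comm 1]
    refine Nat.add_le_add_right (Finset.card_biUnion_le.trans ?_) 1
    simp only [card_nonOne, le_refl]

end Ctx

end Simple

end CfsgLib.Recog.SelfCentThree
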