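import Cfsg.Agent.Lib.Recog.SelfCentThree.Base
import Cfsg.Agent.Lib.Transfer.SimpleCount
import Cfsg.Agent.Lib.Transfer.Simple168
import Cfsg.Agent.S1007

/-!
Simple groups of order 60 and 168 with a self-centralizing element of order three.
-/

set_option autoImplicit false
set_option linter.unusedSectionVars false
set_option linter.style.haveILetI false

namespace CfsgLib.Recog.SelfCentThree

open Subgroup

universe u

variable {G : Type u} [Group G] [Finite G] {x : G}

/-- The image of an invariant subgroup is invariant. -/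
theorem Inv.image {H : Type*} [Group H] {M : Subgroup G} (hM : Inv x M) (f : G →* H) :
    Inv (f x) (M.map f) := by
  refine ⟨?_, fun h3 => hM.2 (h3.trans (Subgroup.card_map_dvd M f))⟩
  rw [Subgroup.mem_normalizer_iff]
  intro g
  constructor
  · rintro ⟨m, hm, rfl⟩
    exact ⟨x * m * x⁻¹, (Subgroup.mem_normalizer_iff.1 hM.1 m).1 hm, by simp⟩
  · rintro ⟨m, hm, hme⟩
    refine ⟨x⁻¹ * m * x, ?_, ?_⟩
    · refine (Subgroup.mem_normalizer_iff.1 hM.1 _).2 ?_
      rwa [show x * (x⁻¹ * m * x) * x⁻¹ = m by group]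
    · rw [map_mul, map_mul, map_inv, hme]
      group

/-- An invariant subgroup meets the normalizer of `⟨x⟩` trivially. -/
theorem Inv.eq_one_of_mem_normalizer {M : Subgroup G} (hM : Inv x M) (h : Hyp x) {m : G}
    (hm : m ∈ M) (hn : m ∈ Subgroup.normalizer ((Subgroup.zpowers x : Subgroup G) : Set G)) :
    m = 1 := by
  rcases h.conj_cases ((Subgroup.mem_normalizer_iff.1 hn x).1 (Subgroup.mem_zpowers x)) with e | e
  · obtain ⟨k, rfl⟩ := Subgroup.mem_zpowers_iff.1 e
    exact h.eq_one_of_commute hM.2 hm ((Commute.refl x).zpow_left k).eq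
  · exact absurd hm ((h.inverter_of_conj e).not_mem h hM)

theorem IsInverter.mem_normalizer {t : G} (ht : IsInverter x t) :
    t ∈ Subgroup.normalizer ((Subgroup.zpowers x : Subgroup G) : Set G) := by
  have key : ∀ y ∈ Subgroup.zpowers x, t * y * t⁻¹ ∈ Subgroup.zpowers x := fun y hy => by
    obtain ⟨k, rfl⟩ := Subgroup.mem_zpowers_iff.1 hy
    rw [← conj_zpow, ht.2]
    exact zpow_mem (inv_mem (Subgroup.mem_zpowers x)) k
  rw [Subgroup.mem_normalizer_iff]
  refine fun y => ⟨key y, fun hy => ?_⟩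
  have := key _ hy
  rwa [show t * (t * y * t⁻¹) * t⁻¹ = (t * t) * y * (t * t)⁻¹ by group, ht.1, one_mul, inv_one,
    mul_one] at this

/-- If a subgroup `B` of the normalizer of `M` normalizes `⟨x⟩`, then the orders multiply. -/
theorem Inv.card_mul_le {M : Subgroup G} (hM : Inv x M) (h : Hyp x) {B : Subgroup G}
    (hB : B ≤ Subgroup.normalizer ((Subgroup.zpowers x : Subgroup G) : Set G))
    (hBN : B ≤ Subgroup.normalizer (M : Set G)) :
    Nat.card M * Nat.card B ≤ Nat.card ↥(Subgroup.normalizer (M : Set G)) := by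
  rw [← Nat.card_prod]
  refine Nat.card_le_card_of_injective
    (fun z => ⟨(z.1 : G) * z.2, mul_mem (Subgroup.le_normalizer z.1.2) (hBN z.2.2)⟩) ?_
  rintro ⟨m, b⟩ ⟨m', b'⟩ e
  have e' : (m : G) * b = m' * b' := congrArg Subtype.val e
  have h1 : (m' : G)⁻¹ * m = b' * (b : G)⁻¹ := by
    calc (m' : G)⁻¹ * m = (m' : G)⁻¹ * (m * b) * (b : G)⁻¹ := by group
      _ = b' * (b : G)⁻¹ := by rw [e']; group
  have h2 := hM.eq_one_of_mem_normalizer h (mul_mem (inv_mem m'.2) m.2)
    (h1 ▸ mul_mem (hB b'.2) (inv_mem (hB b.2)))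
  have h3 : (m : G) = m' := (inv_mul_eq_one.1 h2).symm
  rw [h3] at e'
  exact Prod.ext (Subtype.ext h3) (Subtype.ext (mul_left_cancel e'))

/-- Three times the order of an invariant subgroup is at most the order of its normalizer. -/
theorem Inv.three_mul_card_le {M : Subgroup G} (hM : Inv x M) (h : Hyp x) :
    3 * Nat.card M ≤ Nat.card ↥(Subgroup.normalizer (M : Set G)) := by
  have := hM.card_mul_le h (B := Subgroup.zpowers x) Subgroup.le_normalizer
    (Subgroup.zpowers_le.2 hM.1)
  rw [h.card_zpowers] at this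
  omega

/-- With an inverting element in the normalizer, six times the order is at most that of the normalizer. -/
theorem Inv.six_mul_card_le {M : Subgroup G} (hM : Inv x M) (h : Hyp x) {t : G}
    (ht : IsInverter x t) (htN : t ∈ Subgroup.normalizer (M : Set G)) :
    6 * Nat.card M ≤ Nat.card ↥(Subgroup.normalizer (M : Set G)) := by
  set B := Subgroup.normalizer (M : Set G) ⊓
    Subgroup.normalizer ((Subgroup.zpowers x : Subgroup G) : Set G)
  have hxB : x ∈ B := Subgroup.mem_inf.2 ⟨hM.1, Subgroup.le_normalizer (Subgroup.mem_zpowers x)⟩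
  have htB : t ∈ B := Subgroup.mem_inf.2 ⟨htN, ht.mem_normalizer⟩
  have h3 : 3 ∣ Nat.card B := by
    rw [← h.ord, ← Subgroup.orderOf_mk x hxB]
    exact orderOf_dvd_natCard _
  have h2 : 2 ∣ Nat.card B := by
    have hto : orderOf t = 2 := orderOf_eq_prime (by rw [sq, ht.1]) fun e => by
      have := ht.2
      rw [e, one_mul, inv_one, mul_one] at this
      exact h.ne_one (by
        calc x = x⁻¹ * (x * x) := by group
          _ = x * (x * x) := by rw [← this]
          _ = 1 := by rw [← mul_assoc, h.pow_three])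
    rw [← hto, ← Subgroup.orderOf_mk t htB]
    exact orderOf_dvd_natCard _
  have h6 : 6 ≤ Nat.card B :=
    Nat.le_of_dvd Nat.card_pos (Nat.Coprime.mul_dvd_of_dvd_of_dvd (by norm_num : Nat.Coprime 2 3) h2 h3)
  have := hM.card_mul_le h (B := B) inf_le_right inf_le_left
  have h7 := Nat.mul_le_mul_left (Nat.card M) h6
  omega

section Simple

variable [IsSimpleGroup G]

theorem five_le_index (hG : ¬ IsMulCommutative G) (h12 : 12 ≤ Nat.card G) {H : Subgroup G}
    (hH : H ≠ ⊤) : 5 ≤ H.index := by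
  have h := CfsgLib.Transfer.two_mul_card_dvd_factorial hG hH
  by_contra hlt
  have h24 : H.index.factorial ≤ 24 := le_trans (Nat.factorial_le (by omega : H.index ≤ 4)) le_rfl
  have hle := Nat.le_of_dvd (Nat.factorial_pos _) h
  have h5 : H.index.factorial = 24 ∧ Nat.card G = 12 := by omega
  have h12' := h5.2
  -- the group would be alternating of degree four
  have hcard : Nat.card H * H.index = 12 := by rw [Subgroup.card_mul_index, h12']
  obtain ⟨P⟩ : Nonempty (Sylow 3 G) := inferInstance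
  haveI : Fact (Nat.Prime 3) := ⟨Nat.prime_three⟩
  obtain ⟨hn1, hn3, hnd, hnf⟩ :=
    CfsgLib.Transfer.sylow_count_of_simple (p := 3) hG (by rw [h12']; norm_num)
  rw [h12'] at hnd hnf
  have := Nat.le_of_dvd (by norm_num) hnd
  have h44 : Nat.card (Sylow 3 G) = 4 := by
    interval_cases hn : Nat.card (Sylow 3 G) <;> simp_all (config := { decide := true })
  haveI : Fact (Nat.Prime 2) := ⟨Nat.prime_two⟩
  obtain ⟨hm1, hm2, hmd, hmf⟩ :=
    CfsgLib.Transfer.sylow_count_of_simple (p := 2) hG (by rw [h12']; norm_num)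
  rw [h12'] at hmd hmf
  have := Nat.le_of_dvd (by norm_num) hmd
  interval_cases hm : Nat.card (Sylow 2 G) <;> simp_all (config := { decide := true })

theorem Hyp.exists_inverter (h : Hyp x) (hG : ¬ IsMulCommutative G) : ∃ t, IsInverter x t := by
  rcases h.inverter_or_complement with ht | ⟨N, hN, h3, hi⟩
  · exact ht
  exfalso
  rcases IsSimpleGroup.eq_bot_or_eq_top_of_normal N hN with rfl | rfl
  · rw [Subgroup.index_bot] at hi
    exact hG (isCyclic_of_prime_card (p := 3) (hp := ⟨Nat.prime_three⟩) hi).isMulCommutative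
  · rw [Subgroup.index_top] at hi
    norm_num at hi

/-- A subgroup whose normalizer has order divisible by three has a conjugate that `x` normalizes. -/
theorem Hyp.exists_conj_inv (h : Hyp x) (hG : ¬ IsMulCommutative G) (W : Subgroup G)
    (hW : ¬ 3 ∣ Nat.card W) (h3 : 3 ∣ Nat.card ↥(Subgroup.normalizer (W : Set G))) :
    ∃ V : Subgroup G, Inv x V ∧ Nat.card V = Nat.card W := by
  haveI : Fact (Nat.Prime 3) := ⟨Nat.prime_three⟩
  obtain ⟨t, ht⟩ := h.exists_inverter hG
  obtain ⟨⟨y, hyN⟩, hy⟩ := exists_prime_orderOf_dvd_card' 3 h3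
  rw [Subgroup.orderOf_mk] at hy
  obtain ⟨c, hc⟩ := isConj_iff.1 (h.isConj_of_orderOf ht hy)
  have hcard : Nat.card (W.map (MulAut.conj c⁻¹).toMonoidHom) = Nat.card W :=
    Subgroup.card_map_of_injective (MulAut.conj c⁻¹).injective
  refine ⟨_, ⟨?_, by rwa [hcard]⟩, hcard⟩
  rw [Subgroup.mem_normalizer_iff]
  intro g
  simp only [Subgroup.mem_map_equiv, MulAut.conj_symm_apply, inv_inv]
  rw [show c * (x * g * x⁻¹) * c⁻¹ = (c * x * c⁻¹) * (c * g * c⁻¹) * (c * x * c⁻¹)⁻¹ by group, hc]
  exact Subgroup.mem_normalizer_iff.1 hyN _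

theorem card_le_of_inv_sixty (h : Hyp x) (hc : Nat.card G = 60) (hG : ¬ IsMulCommutative G)
    {S : Subgroup G} (hS : Inv x S) : Nat.card S = 1 ∨ Nat.card S = 4 := by
  rcases eq_or_ne S ⊥ with rfl | hne
  · exact Or.inl Subgroup.card_bot
  have hN : Subgroup.normalizer (S : Set G) ≠ ⊤ := fun e => by
    rcases IsSimpleGroup.eq_bot_or_eq_top_of_normal S (Subgroup.normalizer_eq_top_iff.1 e) with e' | e'
    · exact hne e'
    · exact hS.2 (by rw [e', Subgroup.card_top]; exact h.three_dvd)
  have h5 := five_le_index hG (by omega) hN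
  have hm := (Subgroup.normalizer (S : Set G)).card_mul_index
  have h3 := hS.three_mul_card_le h
  have hle := Nat.mul_le_mul_left (Nat.card ↥(Subgroup.normalizer (S : Set G))) h5
  have hmod := hS.card_mod h
  omega

theorem not_inverter_normalizes_sixty (h : Hyp x) (hc : Nat.card G = 60) (hG : ¬ IsMulCommutative G)
    {W : Subgroup G} (hW : Inv x W) (hW4 : Nat.card W = 4) {t : G} (ht : IsInverter x t) :
    t ∉ Subgroup.normalizer (W : Set G) := by
  intro htN
  have h6 := hW.six_mul_card_le h ht htN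
  rw [hW4] at h6
  have hN : Subgroup.normalizer (W : Set G) ≠ ⊤ := fun e => by
    rcases IsSimpleGroup.eq_bot_or_eq_top_of_normal W (Subgroup.normalizer_eq_top_iff.1 e) with e' | e'
    · rw [e', Subgroup.card_bot] at hW4; omega
    · rw [e', Subgroup.card_top, hc] at hW4; omega
  have h5 := five_le_index hG (by omega) hN
  have hm := (Subgroup.normalizer (W : Set G)).card_mul_index
  have hle := Nat.mul_le_mul h6 h5
  omega

theorem exists_inv_four_sixty (h : Hyp x) (hc : Nat.card G = 60) (hG : ¬ IsMulCommutative G) :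
    ∃ W : Subgroup G, Inv x W ∧ Nat.card W = 4 := by
  haveI : Fact (Nat.Prime 2) := ⟨Nat.prime_two⟩
  obtain ⟨T⟩ : Nonempty (Sylow 2 G) := inferInstance
  have hT : Nat.card (T : Subgroup G) = 4 := by
    rw [Sylow.card_eq_multiplicity, hc,
      show (60 : ℕ).factorization 2 = 2 from ?_]
    · norm_num
    · have h1 := (Nat.prime_two.pow_dvd_iff_le_factorization (by norm_num : (60 : ℕ) ≠ 0)).1
        (by norm_num : 2 ^ 2 ∣ 60)
      have h2 : ¬ 3 ≤ (60 : ℕ).factorization 2 := fun h' => absurd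
        ((Nat.prime_two.pow_dvd_iff_le_factorization (by norm_num : (60 : ℕ) ≠ 0)).2 h') (by norm_num)
      omega
  have hW3 : ¬ 3 ∣ Nat.card (T : Subgroup G) := by omega
  by_cases h3 : 3 ∣ Nat.card ↥(Subgroup.normalizer ((T : Subgroup G) : Set G))
  · obtain ⟨V, hV, hVc⟩ := h.exists_conj_inv hG _ hW3 h3
    exact ⟨V, hV, hVc.trans hT⟩
  exfalso
  have h2 : 2 ∣ Nat.card G := by omega
  have hN := CfsgLib.Transfer.normalizer_ne_top_of_simple hG h2 T
  have h5 := five_le_index hG (by omega) hN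
  have hm := (Subgroup.normalizer ((T : Subgroup G) : Set G)).card_mul_index
  have h4 : 4 ∣ Nat.card ↥(Subgroup.normalizer ((T : Subgroup G) : Set G)) :=
    hT ▸ Subgroup.card_dvd_of_le Subgroup.le_normalizer
  have hd : Nat.card ↥(Subgroup.normalizer ((T : Subgroup G) : Set G)) ∣ 60 :=
    hc ▸ Subgroup.card_subgroup_dvd_card _
  have hle := Nat.mul_le_mul_left (Nat.card ↥(Subgroup.normalizer ((T : Subgroup G) : Set G))) h5
  have hN4 : Nat.card ↥(Subgroup.normalizer ((T : Subgroup G) : Set G)) = 4 := by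
    have h12 : Nat.card ↥(Subgroup.normalizer ((T : Subgroup G) : Set G)) ≤ 12 := by omega
    generalize Nat.card ↥(Subgroup.normalizer ((T : Subgroup G) : Set G)) = k at h3 h4 hd h12
    interval_cases k <;> omega
  refine CfsgLib.Transfer.not_normalizer_le_centralizer hG h2 T ?_
  have heq : (T : Subgroup G) = Subgroup.normalizer ((T : Subgroup G) : Set G) :=
    Subgroup.eq_of_le_of_card_ge Subgroup.le_normalizer (by rw [hT, hN4])
  rw [← heq]
  haveI : IsMulCommutative (T : Subgroup G) := by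
    have := IsPGroup.isMulCommutative_of_card_eq_prime_sq (p := 2) (G := (T : Subgroup G))
      (by rw [hT]; norm_num)
    exact this
  exact Subgroup.le_centralizer (T : Subgroup G)

theorem exists_inv_four_168 (h : Hyp x) (hc : Nat.card G = 168) :
    ∃ W : Subgroup G, Inv x W ∧ Nat.card W = 4 := by
  haveI : Fact (Nat.Prime 2) := ⟨Nat.prime_two⟩
  obtain ⟨T⟩ : Nonempty (Sylow 2 G) := inferInstance
  obtain ⟨hcard, -, hnor⟩ := Cfsg.Agent.S1007.result hc T
  obtain ⟨U, -, hU⟩ : {U : Subgroup G // U ≤ (T : Subgroup G) ∧ IsKleinFour ↥U} := Classical.choice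
    (Finite.card_pos_iff.1 (by rw [hcard]; norm_num))
  obtain ⟨e⟩ := hnor U hU
  have hU4 : Nat.card U = 4 := hU.card_four
  have hN : Nat.card ↥(Subgroup.normalizer (U : Set G)) = 24 := by
    rw [Nat.card_congr e.toEquiv, Nat.card_perm, Nat.card_eq_fintype_card, Fintype.card_fin]
    rfl
  obtain ⟨V, hV, hVc⟩ := h.exists_conj_inv (CfsgLib.Transfer.nonabelian_168 hc) U (by omega) (by omega)
  exact ⟨V, hV, hVc.trans hU4⟩

theorem exists_inv_seven_168 (h : Hyp x) (hc : Nat.card G = 168) :
    ∃ W : Subgroup G, Inv x W ∧ Nat.card W = 7 := by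
  haveI : Fact (Nat.Prime 7) := ⟨by norm_num⟩
  obtain ⟨T⟩ : Nonempty (Sylow 7 G) := inferInstance
  obtain ⟨hT, hN, -⟩ := (CfsgLib.Transfer.sylow7_168 hc).2 T
  obtain ⟨V, hV, hVc⟩ := h.exists_conj_inv (CfsgLib.Transfer.nonabelian_168 hc) (T : Subgroup G)
    (by omega) (by omega)
  exact ⟨V, hV, hVc.trans hT⟩

end Simple

end CfsgLib.Recog.SelfCentThree
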