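import Cfsg.Agent.Lib.Recog.SelfCentThree.Rel

/-!
The kinds of maximal invariant subgroups and how many there are of each.
-/

set_option autoImplicit false
set_option linter.unusedSectionVars false
set_option linter.style.haveILetI false

namespace CfsgLib.Recog.SelfCentThree

open Subgroup

universe u

variable {G : Type u} [Group G] [Finite G] [IsSimpleGroup G] {x : G}

/-- A 2-group with normalizer of index six over it. -/
def IsSix (M : Subgroup G) : Prop :=
  IsPGroup 2 M ∧ Nat.card ↥(Subgroup.normalizer (M : Set G)) = 6 * Nat.card M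

/-- The odd part of a natural number. -/
def oddPart (m : ℕ) : ℕ := m / 2 ^ m.factorization 2

theorem oddPart_mul (m : ℕ) : 2 ^ m.factorization 2 * oddPart m = m :=
  Nat.ordProj_mul_ordCompl_eq_self m 2

theorem oddPart_odd {m : ℕ} (hm : m ≠ 0) : ¬ 2 ∣ oddPart m :=
  Nat.not_dvd_ordCompl Nat.prime_two hm

theorem oddPart_dvd (m : ℕ) : oddPart m ∣ m := ⟨2 ^ m.factorization 2, by
  rw [mul_comm, oddPart_mul]⟩

theorem card_normalizer_cnj (g : G) (M : Subgroup G) :
    Nat.card ↥(Subgroup.normalizer (cnj g M : Set G)) =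
      Nat.card ↥(Subgroup.normalizer (M : Set G)) := by
  rw [← card_cnj g (Subgroup.normalizer (M : Set G))]
  refine congrArg (fun S : Subgroup G => Nat.card S) (Subgroup.ext fun a => ?_)
  rw [mem_normalizer_cnj, mem_cnj]

theorem Mem.one_lt_card {M : Subgroup G} (hM : Mem x M) : 1 < Nat.card M :=
  (Subgroup.one_lt_card_iff_ne_bot M).2 hM.ne

theorem Mem.four_le (hx : Ctx x) {M : Subgroup G} (hM : Mem x M) : 4 ≤ Nat.card M := by
  have := hM.inv.card_mod hx.hyp
  have := hM.one_lt_card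
  omega

theorem Mem.two_dvd {M : Subgroup G} (hM : Mem x M) (h2 : IsPGroup 2 M) : 2 ∣ Nat.card M := by
  haveI : Fact (Nat.Prime 2) := ⟨Nat.prime_two⟩
  obtain ⟨k, hk⟩ := IsPGroup.iff_card.1 h2
  have := hM.one_lt_card
  rw [hk] at this ⊢
  exact dvd_pow_self 2 (fun e => by rw [e, pow_zero] at this; omega)

theorem Mem.exists_odd_prime {M : Subgroup G} (h2 : ¬ IsPGroup 2 M) :
    ∃ q, q.Prime ∧ q ∣ Nat.card M ∧ q ≠ 2 := by
  haveI : Fact (Nat.Prime 2) := ⟨Nat.prime_two⟩
  by_contra hall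
  push Not at hall
  exact h2 (IsPGroup.of_card (n := (Nat.card M).primeFactorsList.length)
    (Nat.eq_prime_pow_of_unique_prime_dvd Nat.card_pos.ne' fun {d} hd hdvd => hall d hd hdvd))

namespace Ctx

variable (hx : Ctx x)
include hx

variable {M M' : Subgroup G} {t : G}

theorem mem_normalizer_iff_six (hM : Mem x M) (ht : IsInverter x t) :
    t ∈ Subgroup.normalizer (M : Set G) ↔
      Nat.card ↥(Subgroup.normalizer (M : Set G)) = 6 * Nat.card M := by
  rcases hx.card_normalizer hM with ⟨e, hn⟩ | ⟨e, hy⟩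
  · have := Nat.card_pos (α := M)
    exact iff_of_false (hn t ht) (by omega)
  · exact iff_of_true (hy t ht) e

theorem three_or_six (hM : Mem x M) :
    Nat.card ↥(Subgroup.normalizer (M : Set G)) = 3 * Nat.card M ∨
      Nat.card ↥(Subgroup.normalizer (M : Set G)) = 6 * Nat.card M :=
  (hx.card_normalizer hM).imp And.left And.left

theorem not_isT_of_six (h : Nat.card ↥(Subgroup.normalizer (M : Set G)) = 6 * Nat.card M) :
    ¬ IsT M := fun e => by
  have := e.2
  have := Nat.card_pos (α := M)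
  omega

/-- A member with an inverting element in the normalizer is alone in its class. -/
theorem eq_of_cnj_six (hM : Mem x M) (hM' : Mem x M')
    (h6 : Nat.card ↥(Subgroup.normalizer (M : Set G)) = 6 * Nat.card M) {g : G}
    (he : M' = cnj g M) : M' = M := by
  obtain ⟨t, ht⟩ := hx.hyp.exists_inverter hx.nc
  rcases hx.cnj_cases hM hM' he ht with e | e
  · exact e
  · rwa [cnj_eq_of_mem ((hx.mem_normalizer_iff_six hM ht).2 h6)] at e

theorem cnj_inverter_ne (hM : Mem x M)
    (h3 : Nat.card ↥(Subgroup.normalizer (M : Set G)) = 3 * Nat.card M) (ht : IsInverter x t) :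
    cnj t M ≠ M := fun e => by
  have := (hx.mem_normalizer_iff_six hM ht).1 (mem_normalizer_of_cnj_eq e)
  have := Nat.card_pos (α := M)
  omega

theorem normalizer_card_mul_le (hM : Mem x M) (hM' : Mem x M') (hne : M ≠ M')
    (hT : ¬ (IsT M ∧ IsT M')) :
    Nat.card ↥(Subgroup.normalizer (M : Set G)) * Nat.card M' ≤ Nat.card G := by
  have hbot : M ⊓ M' = ⊥ := (hx.inf_eq_bot hM hM' hne).resolve_right hT
  have hS : Subgroup.normalizer (M : Set G) ⊓ M' = ⊥ := by
    have h1 : Inv x (M' ⊓ Subgroup.normalizer (M : Set G)) :=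
      hM'.inv.inf (Subgroup.le_normalizer hM.inv.1)
    have h2 := hx.le_of_inv hM inf_le_right h1
    rw [inf_comm, eq_bot_iff, ← hbot]
    exact le_inf h2 inf_le_left
  rw [← Nat.card_prod]
  refine Nat.card_le_card_of_injective
    (fun z : Subgroup.normalizer (M : Set G) × M' => (z.1 : G) * z.2) ?_
  rintro ⟨a, b⟩ ⟨a', b'⟩ (e : (a : G) * b = a' * b')
  have h1 : (a' : G)⁻¹ * a = b' * (b : G)⁻¹ := by
    calc (a' : G)⁻¹ * a = (a' : G)⁻¹ * (a * b) * (b : G)⁻¹ := by group
      _ = b' * (b : G)⁻¹ := by rw [e]; group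
  have h2 : (a' : G)⁻¹ * a = 1 := by
    rw [← Subgroup.mem_bot, ← hS]
    exact Subgroup.mem_inf.2 ⟨mul_mem (inv_mem a'.2) a.2, h1 ▸ mul_mem b'.2 (inv_mem b.2)⟩
  have h3 : (a : G) = a' := (inv_mul_eq_one.1 h2).symm
  rw [h3] at e
  exact Prod.ext (Subtype.ext h3) (Subtype.ext (mul_left_cancel e))

theorem pair_le (hM : Mem x M) (hM' : Mem x M') (hne : M ≠ M') (hT : ¬ (IsT M ∧ IsT M')) :
    3 * Nat.card M * Nat.card M' ≤ Nat.card G :=
  le_trans (Nat.mul_le_mul_right _ (hM.inv.three_mul_card_le hx.hyp))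
    (hx.normalizer_card_mul_le hM hM' hne hT)

theorem six_pair_le (hM : Mem x M) (hM' : Mem x M') (hne : M ≠ M')
    (h6 : Nat.card ↥(Subgroup.normalizer (M : Set G)) = 6 * Nat.card M ∨
      Nat.card ↥(Subgroup.normalizer (M' : Set G)) = 6 * Nat.card M') :
    6 * Nat.card M * Nat.card M' ≤ Nat.card G := by
  rcases h6 with e | e
  · have := hx.normalizer_card_mul_le hM hM' hne fun h => hx.not_isT_of_six e h.1
    rwa [e] at this
  · have := hx.normalizer_card_mul_le hM' hM hne.symm fun h => hx.not_isT_of_six e h.1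
    rw [e] at this
    calc 6 * Nat.card M * Nat.card M' = 6 * Nat.card M' * Nat.card M := by ring
      _ ≤ _ := this

theorem kind (hM : Mem x M) : ¬ IsPGroup 2 M ∨ IsT M ∨ IsSix M := by
  by_cases h2 : IsPGroup 2 M
  · exact Or.inr ((hx.three_or_six hM).imp (fun e => ⟨h2, e⟩) fun e => ⟨h2, e⟩)
  · exact Or.inl h2

/-- Odd parts of the members that are not 2-groups are at least seven. -/
theorem seven_le_oddPart (hM : Mem x M) (h2 : ¬ IsPGroup 2 M) : 7 ≤ oddPart (Nat.card M) := by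
  have hne := Nat.card_pos (α := M) |>.ne'
  obtain ⟨R, hR⟩ := exists_part M (hM.inv.isNilpotent hx.hyp) Nat.prime_two
  have h1 := (hR.inv Nat.prime_two hM.inv).card_mod hx.hyp
  rw [hR.2.1] at h1
  have h3 := hM.inv.card_mod hx.hyp
  rw [← oddPart_mul (Nat.card M), Nat.mul_mod, h1, one_mul, Nat.mod_mod] at h3
  have hodd := oddPart_odd hne
  have : oddPart (Nat.card M) ≠ 1 := fun e => by
    haveI : Fact (Nat.Prime 2) := ⟨Nat.prime_two⟩
    refine h2 (IsPGroup.of_card (n := (Nat.card M).factorization 2) ?_)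
    have := oddPart_mul (Nat.card M)
    rw [e, mul_one] at this
    exact this.symm
  omega

theorem oddPart_coprime (hM : Mem x M) (hM' : Mem x M')
    (hne : oddPart (Nat.card M) ≠ oddPart (Nat.card M')) :
    (oddPart (Nat.card M)).Coprime (oddPart (Nat.card M')) := by
  by_contra hc
  obtain ⟨q, hq, hq1, hq2⟩ := Nat.Prime.not_coprime_iff_dvd.1 hc
  have hq' : q ≠ 2 := fun e => oddPart_odd (Nat.card_pos (α := M)).ne' (e ▸ hq1)
  obtain ⟨g, hg⟩ := hx.exists_cnj_of_part hM hM' hq (hq1.trans (oddPart_dvd _))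
    (hq2.trans (oddPart_dvd _)) (Or.inl hq')
  exact hne (by rw [hg, card_cnj])

theorem class_card_le_two (s : Finset (Subgroup G)) (hs : ∀ M ∈ s, Mem x M)
    (hc : ∀ M ∈ s, ∀ M' ∈ s, ∃ g, M' = cnj g M) : s.card ≤ 2 := by
  classical
  obtain ⟨t, ht⟩ := hx.hyp.exists_inverter hx.nc
  rcases s.eq_empty_or_nonempty with rfl | ⟨A, hA⟩
  · simp
  refine (Finset.card_le_card (t := {A, cnj t A}) fun B hB => ?_).trans Finset.card_le_two
  obtain ⟨g, hg⟩ := hc A hA B hB
  rcases hx.cnj_cases (hs A hA) (hs B hB) hg ht with e | e <;> simp [e]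

open scoped _root_.Classical in
theorem card_filter_isT_le : ((mems x).filter fun M => IsT M).card ≤ 2 := by
  refine hx.class_card_le_two _ (fun M hM => mem_mems.1 (Finset.mem_filter.1 hM).1) ?_
  intro A hA B hB
  obtain ⟨hA, hA2, hA3⟩ := Finset.mem_filter.1 hA
  obtain ⟨hB, hB2, hB3⟩ := Finset.mem_filter.1 hB
  exact hx.exists_cnj_of_part (mem_mems.1 hA) (mem_mems.1 hB) Nat.prime_two
    ((mem_mems.1 hA).two_dvd hA2) ((mem_mems.1 hB).two_dvd hB2) (Or.inr ⟨hA3, hB3⟩)

open scoped _root_.Classical in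
/-- The members that are not 2-groups come in few classes. -/
theorem exists_odd_classes {M₀ : Subgroup G} (h₀ : Mem x M₀) :
    ∃ L, ((mems x).filter fun M : Subgroup G => ¬ IsPGroup 2 M).card ≤ 2 * L ∧
      3 * Nat.card M₀ * 7 ^ (L - 1) ≤ Nat.card G := by
  set O := (mems x).filter fun M : Subgroup G => ¬ IsPGroup 2 M with hOd
  set Q := O.image fun M : Subgroup G => oddPart (Nat.card M) with hQ
  have hO : ∀ M ∈ O, Mem x M ∧ ¬ IsPGroup 2 M := fun M hM =>
    ⟨mem_mems.1 (Finset.mem_filter.1 hM).1, (Finset.mem_filter.1 hM).2⟩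
  refine ⟨Q.card, ?_, ?_⟩
  · refine Finset.card_le_mul_card_image O 2 fun o _ => ?_
    refine hx.class_card_le_two _ (fun M hM => (hO M (Finset.mem_filter.1 hM).1).1) ?_
    intro A hA B hB
    obtain ⟨hAO, rfl⟩ := Finset.mem_filter.1 hA
    obtain ⟨hB, hBA⟩ := Finset.mem_filter.1 hB
    obtain ⟨hA, hA2⟩ := hO A hAO
    obtain ⟨q, hq, hq1⟩ :=
      Nat.exists_prime_and_dvd (n := oddPart (Nat.card A)) (by
        have := hx.seven_le_oddPart hA hA2; omega)
    have hq' : q ≠ 2 := fun e => oddPart_odd (Nat.card_pos (α := A)).ne' (e ▸ hq1)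
    exact hx.exists_cnj_of_part hA (hO B hB).1 hq (hq1.trans (oddPart_dvd _))
      ((hq1.trans (dvd_of_eq hBA.symm)).trans (oddPart_dvd _)) (Or.inl hq')
  · -- the product of the odd parts divides the order
    have hfac : ∀ o ∈ Q, ∃ M, Mem x M ∧ o = oddPart (Nat.card M) ∧ 7 ≤ o := by
      intro o ho
      obtain ⟨M, hM, rfl⟩ := Finset.mem_image.1 ho
      exact ⟨M, (hO M hM).1, rfl, hx.seven_le_oddPart (hO M hM).1 (hO M hM).2⟩
    have hdvd : ∀ o ∈ Q, o ∣ Nat.card G ∧ ¬ 2 ∣ o ∧ ¬ 3 ∣ o := by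
      intro o ho
      obtain ⟨M, hM, rfl, -⟩ := hfac o ho
      exact ⟨(oddPart_dvd _).trans (Subgroup.card_subgroup_dvd_card M),
        oddPart_odd Nat.card_pos.ne', fun h => hM.inv.2 (h.trans (oddPart_dvd _))⟩
    have hprod : (∏ o ∈ Q, o) ∣ Nat.card G := by
      refine Finset.prod_dvd_of_isRelPrime (fun a ha b hb hab => ?_) fun o ho => (hdvd o ho).1
      obtain ⟨A, hA, rfl, -⟩ := hfac a ha
      obtain ⟨B, hB, rfl, -⟩ := hfac b hb
      exact Nat.coprime_iff_isRelPrime.1 (hx.oddPart_coprime hA hB hab)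
    set v := (Nat.card M₀).factorization 2
    have hall : 3 * 2 ^ v * ∏ o ∈ Q, o ∣ Nat.card G := by
      refine Nat.Coprime.mul_dvd_of_dvd_of_dvd (Nat.Coprime.prod_right fun o ho => ?_) ?_ hprod
      · obtain ⟨-, h2, h3⟩ := hdvd o ho
        exact Nat.Coprime.mul_left (Nat.prime_three.coprime_iff_not_dvd.2 h3)
          ((Nat.prime_two.coprime_iff_not_dvd.2 h2).pow_left v)
      · exact Nat.Coprime.mul_dvd_of_dvd_of_dvd ((Nat.Coprime.pow_right v (by norm_num)))
          hx.hyp.three_dvd ((Nat.ordProj_dvd _ 2).trans (Subgroup.card_subgroup_dvd_card M₀))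
    refine le_trans ?_ (Nat.le_of_dvd Nat.card_pos hall)
    conv_lhs => rw [← oddPart_mul (Nat.card M₀)]
    rw [show 3 * (2 ^ v * oddPart (Nat.card M₀)) * 7 ^ (Q.card - 1) =
      3 * 2 ^ v * (oddPart (Nat.card M₀) * 7 ^ (Q.card - 1)) by ring]
    refine Nat.mul_le_mul_left _ ?_
    by_cases h2 : IsPGroup 2 M₀
    · haveI : Fact (Nat.Prime 2) := ⟨Nat.prime_two⟩
      obtain ⟨k, hk⟩ := IsPGroup.iff_card.1 h2
      have h1 : oddPart (Nat.card M₀) = 1 := by
        rw [oddPart, hk, Nat.Prime.factorization_pow Nat.prime_two, Finsupp.single_eq_same,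
          Nat.div_self (pow_pos (by norm_num) _)]
      rw [h1, one_mul]
      calc 7 ^ (Q.card - 1) ≤ 7 ^ Q.card := Nat.pow_le_pow_right (by norm_num) (Nat.sub_le _ _)
        _ ≤ ∏ o ∈ Q, o := by
          rw [← Finset.prod_const]
          exact Finset.prod_le_prod' fun o ho => by
            obtain ⟨M, -, -, h7⟩ := hfac o ho; exact h7
    · have hmem : oddPart (Nat.card M₀) ∈ Q :=
        Finset.mem_image.2 ⟨M₀, Finset.mem_filter.2 ⟨mem_mems.2 h₀, h2⟩, rfl⟩
      rw [← Finset.mul_prod_erase Q _ hmem]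
      refine Nat.mul_le_mul_left _ ?_
      rw [← Finset.card_erase_of_mem hmem, ← Finset.prod_const]
      exact Finset.prod_le_prod' fun o ho => by
        obtain ⟨M, -, -, h7⟩ := hfac o (Finset.mem_of_mem_erase ho); exact h7

/-- A two-group with an inverting element in its normalizer has square order. -/
theorem exists_sqrt (hM : Mem x M) (hs : IsSix M) (ht : IsInverter x t) :
    ∃ j, 1 ≤ j ∧ Nat.card ↥(M ⊓ Subgroup.centralizer ({t} : Set G)) = 2 ^ j ∧
      Nat.card M = (2 ^ j) ^ 2 := by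
  haveI : Fact (Nat.Prime 2) := ⟨Nat.prime_two⟩
  have he := hM.inv.card_eq_sq hx.hyp ht ((hx.mem_normalizer_iff_six hM ht).2 hs.2)
  obtain ⟨j, hj⟩ := IsPGroup.iff_card.1
    (hs.1.to_le inf_le_left : IsPGroup 2 ↥(M ⊓ Subgroup.centralizer ({t} : Set G)))
  rw [hj] at he
  refine ⟨j, Nat.one_le_iff_ne_zero.2 fun e => ?_, hj, he⟩
  have := hM.one_lt_card
  rw [he, e] at this
  norm_num at this

open scoped _root_.Classical in
/-- The fixed points of an inverting element in these subgroups are independent. -/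
theorem sum_fixed_le (ht : IsInverter x t) :
    ∑ M ∈ (mems x).filter (fun M => IsSix M),
        (Nat.card ↥(M ⊓ Subgroup.centralizer ({t} : Set G)) - 1) ≤
      Nat.card (Subgroup.centralizer ({t} : Set G)) - 1 := by
  refine sum_card_sub_one_le _ _ _ (fun _ _ => inf_le_right) fun A hA B hB hne => ?_
  obtain ⟨hA, hAs⟩ := Finset.mem_filter.1 hA
  obtain ⟨hB, -⟩ := Finset.mem_filter.1 hB
  rcases hx.inf_eq_bot (mem_mems.1 hA) (mem_mems.1 hB) hne with e | e
  · rw [eq_bot_iff, ← e]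
    exact le_inf (inf_le_left.trans inf_le_left) (inf_le_right.trans inf_le_left)
  · exact absurd e.1 (hx.not_isT_of_six hAs.2)

end Ctx

end CfsgLib.Recog.SelfCentThree
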